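import Cfsg.Agent.Lib.J1Order.Setup

/-!
# The amalgam of a group with an involution centralizer `2 × A₅`

An element of order seven of the normalizer of a Sylow `2`-subgroup, normalised by an element of
order three.
-/

set_option autoImplicit false
set_option maxRecDepth 100000
set_option synthInstance.maxSize 4000
set_option synthInstance.maxHeartbeats 400000

namespace CfsgLib.J1Order

open Subgroup

/-- The second conjugate of `uu`. -/
def u1 : A5 := cc * uu * cc⁻¹
/-- The third conjugate of `uu`. -/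
def u2 : A5 := cc⁻¹ * uu * cc

/-- Conjugation by the transposition `(0 1)`. -/
def flip5 : A5 →* A5 where
  toFun x := ⟨Equiv.swap 0 1 * (x : Equiv.Perm (Fin 5)) * Equiv.swap 0 1, by
    rw [Equiv.Perm.mem_alternatingGroup, map_mul, map_mul, Equiv.Perm.mem_alternatingGroup.1 x.2,
      mul_one, Equiv.Perm.sign_swap (by decide)]
    rfl⟩
  map_one' := by ext; simp
  map_mul' x y := by ext; simp [mul_assoc]

theorem flip5_flip5 : ∀ x : A5, flip5 (flip5 x) = x := by decide +kernel

theorem flip5_values : flip5 uu = uu ∧ flip5 cc = cc⁻¹ := by decide +kernel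

/-- The automorphism of `2 × A₅`. -/
def flipK : K5 →* K5 := (MonoidHom.id (Multiplicative (ZMod 2))).prodMap flip5

theorem flipK_flipK (k : K5) : flipK (flipK k) = k := Prod.ext rfl (flip5_flip5 k.2)

theorem card_norm_E : (Finset.univ.filter fun k : K5 =>
    ∀ e : K5, inE e → inE (k * e * k⁻¹)).card = 24 := by decide +kernel

theorem card_E_ne_one : (Finset.univ.filter fun k : K5 => inE k ∧ k ≠ 1).card = 7 := by
  decide +kernel

theorem seven_cases : ∀ k : ℕ, k < 7 → k * k * k % 7 = 1 → k = 1 ∨ k = 2 ∨ k = 4 := by decide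

variable {G : Type*} [Group G] [Finite G]

/-- The amalgam. -/
structure Amalgam (G : Type*) [Group G] extends J1Hyp G where
  /-- The element of order seven. -/
  n : G
  n7 : n ^ 7 = 1
  nt : n * φ zK * n⁻¹ = φ (1, uu)
  nu : n * φ (1, uu) * n⁻¹ = φ (1, u1)
  nv : n * φ (1, u1) * n⁻¹ = φ zK * φ (1, uu)
  cn : φ (1, cc) * n * (φ (1, cc))⁻¹ = n ^ 2

omit [Finite G] in
theorem conj_cancel (x y z : G) (h : x * z * x⁻¹ = x * y * z * (x * y)⁻¹) : z = y * z * y⁻¹ := by
  have := congrArg (fun g => x⁻¹ * g * x) h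
  simpa [mul_assoc] using this

namespace J1Hyp

omit [Finite G] in
/-- The same centralizer with the other orientation. -/
def flipped (H : J1Hyp G) : J1Hyp G where
  φ := H.φ.comp flipK
  inj := H.inj.comp fun a b h => by rw [← flipK_flipK a, h, flipK_flipK]
  cent g hg := by
    have hz : flipK zK = zK := by decide +kernel
    obtain ⟨k, rfl⟩ := H.cent g (by simpa [hz] using hg)
    exact ⟨flipK k, by simp [flipK_flipK]⟩
  dvd16 := H.dvd16
  one := by
    have hz : flipK zK = zK := by decide +kernel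
    simpa [hz] using H.one

omit [Finite G] in
/-- The amalgam, given the orientation. -/
theorem amalgam_of_two (H : J1Hyp G) (n : G) (n7 : n ^ 7 = 1)
    (nt : n * H.φ zK * n⁻¹ = H.φ (1, uu))
    (cn : H.φ (1, cc) * n * (H.φ (1, cc))⁻¹ = n ^ 2) : Nonempty (Amalgam G) := by
  set t := H.φ zK
  set c := H.φ (1, cc) with hc
  have F : ∀ i : ℕ, c * (n ^ i * t * (n ^ i)⁻¹) * c⁻¹ = n ^ (2 * i) * t * (n ^ (2 * i))⁻¹ := by
    intro i
    have hct : c * t * c⁻¹ = t := by
      rw [hc, ← map_inv, ← map_mul, ← map_mul]; exact congrArg H.φ (by decide +kernel)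
    calc c * (n ^ i * t * (n ^ i)⁻¹) * c⁻¹
        = (c * n * c⁻¹) ^ i * (c * t * c⁻¹) * ((c * n * c⁻¹) ^ i)⁻¹ := by rw [conj_pow]; group
      _ = _ := by rw [cn, hct, ← pow_mul]
  have f2 : n ^ 2 * t * (n ^ 2)⁻¹ = H.φ (1, u1) := by
    have := F 1
    rw [pow_one, nt] at this
    rw [← this, hc, ← map_inv, ← map_mul, ← map_mul]
    exact congrArg H.φ (by decide +kernel)
  have f4 : n ^ 4 * t * (n ^ 4)⁻¹ = H.φ (1, u2) := by
    have := F 2
    rw [f2] at this
    rw [← this, hc, ← map_inv, ← map_mul, ← map_mul]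
    exact congrArg H.φ (by decide +kernel)
  have hmul : n ^ 4 * t * (n ^ 4)⁻¹ = (n * t * n⁻¹) * (n ^ 2 * t * (n ^ 2)⁻¹) := by
    rw [nt, f2, f4, ← map_mul]
    exact congrArg H.φ (by decide +kernel)
  have f3 : n ^ 3 * t * (n ^ 3)⁻¹ = t * H.φ (1, uu) := by
    calc n ^ 3 * t * (n ^ 3)⁻¹ = n⁻¹ * (n ^ 4 * t * (n ^ 4)⁻¹) * n := by group
      _ = n⁻¹ * (n * t * n⁻¹) * n * (n⁻¹ * (n ^ 2 * t * (n ^ 2)⁻¹) * n) := by rw [hmul]; group
      _ = t * H.φ (1, uu) := by rw [← nt]; group
  refine ⟨⟨H, n, n7, nt, ?_, ?_, cn⟩⟩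
  · rw [← nt, ← f2, pow_two]; group
  · rw [← f3, ← f2]; group

/-- The amalgam exists. -/
theorem exists_amalgam (H : J1Hyp G) : Nonempty (Amalgam G) := by
  classical
  haveI : Fact (Nat.Prime 7) := ⟨by norm_num⟩
  set t := H.φ zK with ht
  set c := H.φ (1, cc) with hc
  set E : Subgroup G := subE.map H.φ with hE
  have hc8 : Nat.card E = 8 := by
    rw [← card_subE]
    exact (Nat.card_congr (subE.equivMapOfInjective H.φ H.inj).toEquiv).symm
  have hfac : (Nat.card G).factorization 2 = 3 := by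
    have h0 : Nat.card G ≠ 0 := Nat.card_pos.ne'
    have a := (Nat.prime_two.pow_dvd_iff_le_factorization h0 (k := 4)).not.1
      (by norm_num; exact H.dvd16)
    have b := (Nat.prime_two.pow_dvd_iff_le_factorization h0 (k := 3)).1 (by
      norm_num; exact hc8 ▸ Subgroup.card_subgroup_dvd_card E)
    omega
  let P : Sylow 2 G := Sylow.ofCard E (by rw [hc8, hfac]; rfl)
  have hPE : (P : Subgroup G) = E := Sylow.coe_ofCard _ _
  have hmemE : ∀ k, H.φ k ∈ E ↔ inE k := fun k =>
    ⟨fun ⟨k', hk', e⟩ => H.inj e ▸ hk', fun h => ⟨k, h, rfl⟩⟩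
  have hab : IsMulCommutative (P : Subgroup G) := by
    refine ⟨⟨fun a b => ?_⟩⟩
    have ha : (a : G) ∈ E := hPE ▸ a.2
    have hb : (b : G) ∈ E := hPE ▸ b.2
    have hab := E.mul_mem ha hb
    obtain ⟨x, hx, hxa⟩ := ha
    obtain ⟨y, hy, hyb⟩ := hb
    have e1 := sq_inE _ hx
    have e2 := sq_inE _ hy
    have e3 := sq_inE _ (inE_mul _ _ hx hy)
    have : x * y = y * x := by
      rw [← inv_eq_of_mul_eq_one_right e3, mul_inv_rev, inv_eq_of_mul_eq_one_right e1,
        inv_eq_of_mul_eq_one_right e2]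
    refine Subtype.ext ?_
    simp only [Subgroup.coe_mul, ← hxa, ← hyb, ← map_mul, this]
  set N := normalizer (E : Set G) with hN
  have htE : t ∈ E := (hmemE _).2 (by decide)
  -- every involution of `E` is conjugate to `t` under `N`
  have hfus : ∀ k, inE k → k ≠ 1 → ∃ w ∈ N, w * t * w⁻¹ = H.φ k := by
    intro k hk hk1
    have ho : orderOf (H.φ k) = 2 := by
      rw [orderOf_injective H.φ H.inj]
      exact orderOf_eq_prime (by rw [pow_two]; exact sq_inE k hk) hk1
    obtain ⟨g, hg⟩ := isConj_iff.1 (H.one _ ho)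
    obtain ⟨w, hw, e⟩ := Transfer.abelian_sylow_control P hab t (hPE ▸ htE) g
      (by rw [hg, hPE]; exact (hmemE _).2 hk)
    refine ⟨w, ?_, e.trans hg⟩
    rw [hN, ← hPE]; exact hw
  set Nc : Subgroup (ConjAct G) := N.map (ConjAct.toConjAct : G ≃* ConjAct G).toMonoidHom with hNc
  have hmemN : ∀ g, ConjAct.toConjAct g ∈ Nc ↔ g ∈ N := fun g => by
    rw [hNc, Subgroup.mem_map_equiv]; rfl
  have horb : MulAction.orbit Nc t = H.φ '' {k | inE k ∧ k ≠ 1} := by
    ext x
    constructor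
    · rintro ⟨⟨g, hg⟩, rfl⟩
      obtain ⟨g, rfl⟩ := (ConjAct.toConjAct : G ≃* ConjAct G).surjective g
      obtain ⟨k, hk, e⟩ := (Subgroup.mem_normalizer_iff.1 ((hmemN g).1 hg) t).1 htE
      refine ⟨k, ⟨hk, fun h => ?_⟩, by rw [e]; rfl⟩
      rw [h, map_one, eq_comm, mul_inv_eq_one, mul_eq_left, ht, ← map_one H.φ] at e
      exact absurd (H.inj e) (by decide)
    · rintro ⟨k, ⟨hk, hk1⟩, rfl⟩
      obtain ⟨w, hw, e⟩ := hfus k hk hk1
      exact ⟨⟨_, (hmemN w).2 hw⟩, e⟩
  have horb7 : Nat.card (MulAction.orbit Nc t) = 7 := by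
    rw [horb, Nat.card_image_of_injective H.inj, ← card_E_ne_one, ← Nat.card_eq_finsetCard]
    exact Nat.card_congr (Equiv.subtypeEquivRight fun k => by simp)
  have hstab : Nat.card (MulAction.stabilizer Nc t) = 24 := by
    rw [← card_norm_E, ← Nat.card_eq_finsetCard]
    symm
    have hN' : ∀ k : K5, (∀ e : K5, inE e → inE (k * e * k⁻¹)) → H.φ k ∈ N := by
      intro k hk
      rw [hN, Subgroup.mem_normalizer_iff]
      have h' : H.φ k ∈ normalizer (E : Set G) := by
        refine Subgroup.mem_normalizer_fintype ?_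
        rintro _ ⟨e, he, rfl⟩
        exact ⟨_, hk e he, by simp⟩
      exact Subgroup.mem_normalizer_iff.1 h'
    refine Nat.card_congr (Equiv.ofBijective (fun k => ⟨⟨ConjAct.toConjAct (H.φ k.1),
      (hmemN _).2 (hN' _ (Finset.mem_filter.1 k.2).2)⟩, ?_⟩) ⟨?_, ?_⟩)
    · show H.φ k.1 * t * (H.φ k.1)⁻¹ = t
      have : ∀ k : K5, k * zK = zK * k := fun k => Prod.ext (mul_comm _ _) (by simp [zK])
      rw [ht, ← map_inv, ← map_mul, ← map_mul, this]; congr 1; group
    · intro a b h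
      exact Subtype.ext (H.inj (congrArg
        (fun x : MulAction.stabilizer Nc t => ConjAct.ofConjAct (x.1 : ConjAct G)) h))
    · rintro ⟨⟨g, hg⟩, hfix⟩
      obtain ⟨g, rfl⟩ := (ConjAct.toConjAct : G ≃* ConjAct G).surjective g
      have hfix' : g * t * g⁻¹ = t := hfix
      rw [mul_inv_eq_iff_eq_mul] at hfix'
      obtain ⟨k, rfl⟩ := H.cent g hfix'
      refine ⟨⟨k, Finset.mem_filter.2 ⟨Finset.mem_univ _, fun e he => ?_⟩⟩, rfl⟩
      obtain ⟨e', he', ee⟩ := (Subgroup.mem_normalizer_iff.1 ((hmemN _).1 hg) (H.φ e)).1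
        ((hmemE e).2 he)
      rw [← map_inv, ← map_mul, ← map_mul] at ee
      exact H.inj ee ▸ he'
  have hN168 : Nat.card N = 168 := by
    rw [Nat.card_congr (N.equivMapOfInjective (ConjAct.toConjAct : G ≃* ConjAct G).toMonoidHom
      (ConjAct.toConjAct : G ≃* ConjAct G).injective).toEquiv]
    show Nat.card Nc = 168
    rw [← Subgroup.index_mul_card (MulAction.stabilizer Nc t), MulAction.index_stabilizer,
      ← Nat.card_coe_set_eq, horb7, hstab]
  have hcN : c ∈ N := by
    refine Subgroup.mem_normalizer_fintype ?_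
    rintro _ ⟨e, he, rfl⟩
    exact ⟨_, (cc_norm e he).1, by rw [hc, map_mul, map_mul, map_inv]⟩
  -- a Sylow subgroup normalised by `c`
  let cN : N := ⟨c, hcN⟩
  have hc3 : c ^ 3 = 1 := by
    rw [hc, ← map_pow, ← map_one H.φ]; exact congrArg H.φ (by decide +kernel)
  have hfix : ∃ S : Sylow 7 N, cN • S = S := by
    have hp : IsPGroup 3 (Subgroup.zpowers cN) := fun x =>
      ⟨1, by
        obtain ⟨i, hi⟩ := Subgroup.mem_zpowers_iff.1 x.2
        refine Subtype.ext ?_
        simp only [pow_one, SubmonoidClass.coe_pow, OneMemClass.coe_one, ← hi]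
        rw [← zpow_natCast, ← zpow_mul, mul_comm, zpow_mul, zpow_natCast,
          show cN ^ 3 = 1 from Subtype.ext hc3, one_zpow]⟩
    have h3 : ¬ 3 ∣ Nat.card (Sylow 7 N) := by
      obtain ⟨S⟩ := (inferInstance : Nonempty (Sylow 7 N))
      have hS : Nat.card (S : Subgroup N) = 7 := by
        have h1 := S.pow_dvd_card_of_pow_dvd_card (n := 1) (by rw [hN168]; norm_num)
        rw [Sylow.card_eq_multiplicity, hN168]
        have : (168 : ℕ).factorization 7 = 1 := by
          have a := (Nat.Prime.pow_dvd_iff_le_factorization (p := 7) (by norm_num) (n := 168)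
            (by norm_num) (k := 1)).1 (by norm_num)
          have b := (Nat.Prime.pow_dvd_iff_le_factorization (p := 7) (by norm_num) (n := 168)
            (by norm_num) (k := 2)).not.1 (by norm_num)
          omega
        rw [this]; norm_num
      have hidx : (S : Subgroup N).index = 24 := by
        have := (S : Subgroup N).card_mul_index
        rw [hS, hN168] at this
        omega
      have h1 := hidx ▸ Sylow.card_dvd_index S
      have h2 := card_sylow_modEq_one 7 N
      intro h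
      have h24 := Nat.le_of_dvd (by norm_num) h1
      unfold Nat.ModEq at h2
      interval_cases hn : Nat.card (Sylow 7 N) <;> omega
    obtain ⟨S, hS⟩ := hp.nonempty_fixed_point_of_prime_not_dvd_card (Sylow 7 N) h3
    exact ⟨S, hS ⟨cN, Subgroup.mem_zpowers cN⟩⟩
  obtain ⟨S, hS⟩ := hfix
  obtain ⟨mN, hm⟩ : ∃ m : (S : Subgroup N), orderOf m = 7 := by
    refine exists_prime_orderOf_dvd_card' 7 ?_
    exact S.dvd_card_of_dvd_card (by rw [hN168]; norm_num)
  set m : G := ((mN : N) : G) with hmdef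
  have hmo : orderOf m = 7 := by
    rw [hmdef, Subgroup.orderOf_coe, Subgroup.orderOf_coe, hm]
  have hmN : m ∈ N := (mN : N).2
  have hzm : ∀ x : N, x ∈ (S : Subgroup N) → (x : G) ∈ Subgroup.zpowers m := by
    intro x hx
    have h7 : Nat.card (S : Subgroup N) = 7 := by
      obtain ⟨j, hj⟩ := S.2.exists_card_eq
      have hd : Nat.card (S : Subgroup N) ∣ 168 := by
        rw [← hN168]; exact Subgroup.card_subgroup_dvd_card _
      have h7d : 7 ∣ Nat.card (S : Subgroup N) := by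
        have h := orderOf_dvd_natCard mN
        rwa [hm] at h
      have hj1 : j < 2 := by
        by_contra h
        have := (pow_dvd_pow 7 (not_lt.1 h)).trans (hj ▸ hd)
        norm_num at this
      interval_cases j <;> simp_all
    have htop : Subgroup.zpowers mN = ⊤ :=
      (Subgroup.card_eq_iff_eq_top _).1 (by rw [Nat.card_zpowers, hm, h7])
    have hx' : (⟨x, hx⟩ : (S : Subgroup N)) ∈ Subgroup.zpowers mN := by
      rw [htop]; exact Subgroup.mem_top _
    obtain ⟨i, hi⟩ := Subgroup.mem_zpowers_iff.1 hx'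
    refine Subgroup.mem_zpowers_iff.2 ⟨i, ?_⟩
    rw [hmdef]
    simpa using congrArg (fun y : (S : Subgroup N) => ((y : N) : G)) hi
  have hcm : c * m * c⁻¹ ∈ Subgroup.zpowers m := by
    have : cN * mN * cN⁻¹ ∈ (S : Subgroup N) := by
      conv_lhs => rw [← hS]
      rw [Sylow.coe_subgroup_smul, Subgroup.mem_pointwise_smul_iff_inv_smul_mem]
      simp [MulAut.smul_def, mul_assoc]
    exact hzm _ this
  -- `m` moves `t` through all of `E`
  have hmt : ∀ i : ℕ, m ^ i * t * (m ^ i)⁻¹ = t → 7 ∣ i := by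
    intro i hi
    by_contra h7
    rw [mul_inv_eq_iff_eq_mul] at hi
    obtain ⟨k, hk⟩ := H.cent _ hi
    have ho : orderOf (m ^ i) = 7 := by
      rw [orderOf_pow, hmo, Nat.Coprime.gcd_eq_one ((Nat.Prime.coprime_iff_not_dvd
        (by norm_num)).2 h7), Nat.div_one]
    rw [← hk, orderOf_injective H.φ H.inj] at ho
    have := orderOf_dvd_natCard k
    rw [ho, card_K5] at this
    norm_num at this
  have hmpow : ∀ i : ℕ, ∃ k, (inE k ∧ k ≠ 1) ∧ H.φ k = m ^ i * t * (m ^ i)⁻¹ := by
    intro i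
    have : m ^ i * t * (m ^ i)⁻¹ ∈ MulAction.orbit Nc t :=
      ⟨⟨_, (hmemN _).2 (N.pow_mem hmN i)⟩, rfl⟩
    rwa [horb] at this
  choose kk hkk hkk' using hmpow
  obtain ⟨i, hi⟩ : ∃ i : Fin 7, kk i = ((1 : Multiplicative (ZMod 2)), uu) := by
    have hinj : Function.Injective fun i : Fin 7 =>
        (⟨kk i, Finset.mem_filter.2 ⟨Finset.mem_univ _, hkk i⟩⟩ :
          ↥(Finset.univ.filter fun k : K5 => inE k ∧ k ≠ 1)) := by
      intro a b h
      have h1 : kk a = kk b := congrArg Subtype.val h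
      have h' := congrArg H.φ h1
      rw [hkk', hkk'] at h'
      rcases le_total (a : ℕ) b with hab | hab
      · obtain ⟨d, hd⟩ := Nat.exists_eq_add_of_le hab
        rw [hd, pow_add] at h'
        have := hmt d (conj_cancel _ _ _ h').symm
        apply Fin.ext; omega
      · obtain ⟨d, hd⟩ := Nat.exists_eq_add_of_le hab
        rw [hd, pow_add] at h'
        have := hmt d (conj_cancel _ _ _ h'.symm).symm
        apply Fin.ext; omega
    have hbij : Function.Bijective fun i : Fin 7 => (⟨kk i, Finset.mem_filter.2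
        ⟨Finset.mem_univ _, hkk i⟩⟩ : ↥(Finset.univ.filter fun k : K5 => inE k ∧ k ≠ 1)) :=
      (Fintype.bijective_iff_injective_and_card _).2
        ⟨hinj, by rw [Fintype.card_fin, Fintype.card_coe, card_E_ne_one]⟩
    obtain ⟨i, hi⟩ := hbij.2 ⟨((1 : Multiplicative (ZMod 2)), uu),
      Finset.mem_filter.2 ⟨Finset.mem_univ _, by decide +kernel⟩⟩
    exact ⟨i, congrArg Subtype.val hi⟩
  set n := m ^ (i : ℕ) with hn
  have hnt : n * t * n⁻¹ = H.φ (1, uu) := by rw [← hi, hkk']
  have hn1 : ¬ 7 ∣ (i : ℕ) := by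
    intro h
    have hi0 : (i : ℕ) = 0 := Nat.eq_zero_of_dvd_of_lt h i.2
    rw [hn, hi0, pow_zero, one_mul, inv_one, mul_one, ht] at hnt
    exact absurd (H.inj hnt) (by decide)
  have hno : orderOf n = 7 := by
    rw [hn, orderOf_pow, hmo, Nat.Coprime.gcd_eq_one ((Nat.Prime.coprime_iff_not_dvd
      (by norm_num)).2 hn1), Nat.div_one]
  have hn7 : n ^ 7 = 1 := hno ▸ pow_orderOf_eq_one n
  have hnz : Subgroup.zpowers n = Subgroup.zpowers m :=
    Subgroup.eq_of_le_of_card_ge (Subgroup.zpowers_le.2 (Subgroup.npow_mem_zpowers m _))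
      (by rw [Nat.card_zpowers, Nat.card_zpowers, hno, hmo])
  obtain ⟨k, hk7, hk⟩ : ∃ k : ℕ, k < 7 ∧ c * n * c⁻¹ = n ^ k := by
    have : c * n * c⁻¹ ∈ Subgroup.zpowers n := by
      rw [hnz, hn, ← conj_pow]; exact Subgroup.pow_mem _ hcm _
    obtain ⟨j, hj⟩ := Subgroup.mem_zpowers_iff.1 this
    refine ⟨(j % 7).toNat, by omega, ?_⟩
    rw [← zpow_natCast, Int.toNat_of_nonneg (by omega), ← hj, ← zpow_mod_orderOf, hno]
    rfl
  have hk2 : c ^ 2 * n * (c ^ 2)⁻¹ = n ^ (k * k) := by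
    calc c ^ 2 * n * (c ^ 2)⁻¹ = c * (c * n * c⁻¹) * c⁻¹ := by rw [pow_two]; group
      _ = _ := by rw [hk, ← conj_pow, hk, ← pow_mul]
  have hk3 : c ^ 3 * n * (c ^ 3)⁻¹ = n ^ (k * k * k) := by
    calc c ^ 3 * n * (c ^ 3)⁻¹ = c * (c ^ 2 * n * (c ^ 2)⁻¹) * c⁻¹ := by rw [pow_succ']; group
      _ = _ := by rw [hk2, ← conj_pow, hk, ← pow_mul, mul_comm k (k * k)]
  have hkmod : k * k * k % 7 = 1 := by
    rw [hc3, one_mul, inv_one, mul_one] at hk3
    have h : n ^ 1 = n ^ (k * k * k) := by rw [pow_one]; exact hk3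
    rw [pow_inj_mod, hno] at h
    omega
  rcases seven_cases k hk7 hkmod with rfl | rfl | rfl
  · exfalso
    rw [pow_one] at hk
    have hct : c * t * c⁻¹ = t := by
      rw [hc, ht, ← map_inv, ← map_mul, ← map_mul]; exact congrArg H.φ (by decide +kernel)
    have : c * H.φ (1, uu) * c⁻¹ = H.φ (1, uu) := by
      calc c * H.φ (1, uu) * c⁻¹ = (c * n * c⁻¹) * (c * t * c⁻¹) * (c * n * c⁻¹)⁻¹ := by
            rw [← hnt]; group
        _ = H.φ (1, uu) := by rw [hk, hct, hnt]
    rw [hc, ← map_inv, ← map_mul, ← map_mul] at this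
    exact absurd (H.inj this) (by decide +kernel)
  · exact H.amalgam_of_two n hn7 hnt hk
  · have hv : flipK zK = zK ∧ flipK (1, uu) = (1, uu) ∧
        flipK (1, cc) = ((1 : Multiplicative (ZMod 2)), cc)⁻¹ := by decide +kernel
    refine H.flipped.amalgam_of_two n hn7 ?_ ?_
    · simpa [flipped, hv.1, hv.2.1] using hnt
    · show H.φ (flipK (1, cc)) * n * (H.φ (flipK (1, cc)))⁻¹ = n ^ 2
      rw [hv.2.2, map_inv, inv_inv, ← hc]
      have : c⁻¹ = c ^ 2 := inv_eq_of_mul_eq_one_right (by rw [← pow_succ']; exact hc3)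
      calc c⁻¹ * n * c = c ^ 2 * n * (c ^ 2)⁻¹ := by rw [← this]; group
        _ = n ^ 16 := hk2
        _ = n ^ 2 := by rw [pow_inj_mod, hno]

end J1Hyp

end CfsgLib.J1Order
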