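import Cfsg.Agent.Lib.J1Order.Main

/-!
# An element of order five centralizing an element of order three

In a group with an involution centralizer `2 × A₅` of order `175560`, the centralizer of an element
of order three contains an element of order five, centralized by an involution inverting the
element of order three.
-/

set_option autoImplicit false
set_option maxRecDepth 100000
set_option synthInstance.maxSize 4000
set_option synthInstance.maxHeartbeats 400000

namespace CfsgLib.J1Order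

open Subgroup

/-- An involution inverting `cc`. -/
def wp : A5 :=
  ⟨Equiv.swap 0 1 * Equiv.swap 3 4, Equiv.Perm.mem_alternatingGroup.2 (by decide)⟩

theorem cent_cc : ∀ k : K5, k * (1, cc) = (1, cc) * k →
    (k = 1 ∨ k = (1, cc) ∨ k = (1, cc) ^ 2 ∨ k = zK ∨ k = zK * (1, cc) ∨ k = zK * (1, cc) ^ 2) := by
  decide +kernel

theorem card_cent_cc :
    (Finset.univ.filter fun k : K5 => k * (1, cc) = (1, cc) * k).card = 6 := by
  decide +kernel

theorem inv_cc_forms : ∀ k : K5, k * (1, cc) * k⁻¹ = (1, cc)⁻¹ →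
    ∃ i : Fin 3, k = (1, cc) ^ (i : ℕ) * (1, wp) ∨ k = (1, cc) ^ (i : ℕ) * zK * (1, wp) := by
  decide +kernel

theorem wp_facts : ((1 : Multiplicative (ZMod 2)), wp) * (1, wp) = (1 : K5) ∧
    ((1 : Multiplicative (ZMod 2)), wp) * (1, cc) * (1, wp)⁻¹ = (1, cc)⁻¹ ∧
    ((1 : Multiplicative (ZMod 2)), wp) * zK = zK * (1, wp) ∧
    ((1 : Multiplicative (ZMod 2)), cc) ^ 3 = (1 : K5) ∧
    ((1 : Multiplicative (ZMod 2)), cc) * zK = zK * (1, cc) ∧ zK * zK = (1 : K5) ∧
    ((1 : Multiplicative (ZMod 2)), cc) ≠ (1 : K5) ∧ zK ≠ (1 : K5) := by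
  decide +kernel

section general

variable {G : Type*} [Group G] [Finite G]

/-- Commuting elements of order `p` generate the same subgroup if `p²` does not divide the
order. -/
theorem mem_zpowers_of_commute {p : ℕ} (hp : p.Prime) (h2 : ¬ p * p ∣ Nat.card G) {a b : G}
    (ha : orderOf a = p) (hb : orderOf b = p) (hab : Commute a b) : b ∈ zpowers a := by
  by_contra hnot
  have hinj : Function.Injective ((zpowers a).subtype.noncommCoprod (zpowers b).subtype
      (fun x y => by
        obtain ⟨i, hi⟩ := mem_zpowers_iff.1 x.2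
        obtain ⟨j, hj⟩ := mem_zpowers_iff.1 y.2
        simp only [coe_subtype, ← hi, ← hj]
        exact (hab.zpow_left i).zpow_right j)) := by
    refine (injective_iff_map_eq_one _).2 ?_
    rintro ⟨⟨x, hx⟩, ⟨y, hy⟩⟩ h
    have hxy : x * y = 1 := h
    have hy' : y ∈ zpowers a := by
      rw [← inv_eq_of_mul_eq_one_right hxy]; exact inv_mem hx
    obtain ⟨j, hj⟩ := mem_zpowers_iff.1 hy
    have hy1 : y = 1 := by
      by_contra hy1
      refine hnot ?_
      have hle : zpowers y = zpowers b := eq_of_le_of_card_ge (zpowers_le.2 hy) (by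
        rw [Nat.card_zpowers, Nat.card_zpowers, hb]
        have hd : orderOf y ∣ p := hb ▸ orderOf_dvd_of_mem_zpowers hy
        rcases (Nat.dvd_prime hp).1 hd with h1 | h1
        · exact absurd (orderOf_eq_one_iff.1 h1) hy1
        · exact h1.ge)
      exact zpowers_le.2 hy' (hle ▸ mem_zpowers b)
    subst hy1
    rw [mul_one] at hxy
    subst hxy
    rfl
  refine h2 ?_
  have h := Subgroup.card_dvd_of_injective _ hinj
  rwa [Nat.card_prod, Nat.card_zpowers, Nat.card_zpowers, ha, hb] at h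

omit [Finite G] in
/-- A conjugation of order two fixing `zpowers y` centralizes or inverts `y`. -/
theorem conj_eq_or_inv {p : ℕ} (hp : p.Prime) {w y : G} (hy : orderOf y = p) (hw : w * w = 1)
    (h : w * y * w⁻¹ ∈ zpowers y) : w * y * w⁻¹ = y ∨ w * y * w⁻¹ = y⁻¹ := by
  obtain ⟨j, hj⟩ := mem_zpowers_iff.1 h
  have h2 : y ^ (j * j) = y ^ (1 : ℤ) := by
    rw [zpow_one, zpow_mul, hj, conj_zpow, hj]
    calc w * (w * y * w⁻¹) * w⁻¹ = (w * w) * y * (w * w)⁻¹ := by group
      _ = y := by rw [hw]; group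
  rw [zpow_eq_zpow_iff_modEq, hy, Int.modEq_iff_dvd] at h2
  have h3 : (p : ℤ) ∣ (j - 1) * (j + 1) := by
    have := dvd_neg.2 h2
    rwa [show (j - 1) * (j + 1) = -(1 - j * j) by ring]
  rcases (Nat.prime_iff_prime_int.1 hp).dvd_or_dvd h3 with hd | hd
  · left
    rw [← hj]
    conv_rhs => rw [← zpow_one y]
    rw [zpow_eq_zpow_iff_modEq, hy, Int.modEq_iff_dvd, ← dvd_neg, neg_sub]
    exact hd
  · right
    rw [← hj, ← zpow_neg_one, zpow_eq_zpow_iff_modEq, hy, Int.modEq_iff_dvd, ← dvd_neg]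
    rwa [show -(-1 - j) = j + 1 by ring]

omit [Finite G] in
/-- A conjugate of an inverted or centralized generator. -/
theorem conj_mem_zpowers {w y x : G} (h : w * y * w⁻¹ ∈ zpowers y) (hx : x ∈ zpowers y) :
    w * x * w⁻¹ ∈ zpowers y := by
  obtain ⟨i, rfl⟩ := mem_zpowers_iff.1 hx
  rw [← conj_zpow]
  exact zpow_mem h i

end general

namespace J1Hyp

variable {G : Type*} [Group G] [Finite G]

/-- Elements of `2`-power order square to one. -/
theorem sq_of_two_power (H : J1Hyp G) {x : G} {j : ℕ} (hx : x ^ 2 ^ j = 1) : x * x = 1 := by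
  classical
  set E : Subgroup G := subE.map H.φ with hE
  have hc8 : Nat.card E = 8 := by
    rw [← card_subE]
    exact (Nat.card_congr (subE.equivMapOfInjective H.φ H.inj).toEquiv).symm
  have hfac : (Nat.card G).factorization 2 = 3 := by
    have h0 : Nat.card G ≠ 0 := Nat.card_pos.ne'
    have a := (Nat.prime_two.pow_dvd_iff_le_factorization h0 (k := 4)).not.1
      (by norm_num; exact H.dvd16)
    have b := (Nat.prime_two.pow_dvd_iff_le_factorization h0 (k := 3)).1 (by
      norm_num; exact hc8 ▸ Subgroup.card_subgroup_dvd_card E)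
    omega
  let P : Sylow 2 G := Sylow.ofCard E (by rw [hc8, hfac]; rfl)
  have hPE : (P : Subgroup G) = E := Sylow.coe_ofCard _ _
  have hp : IsPGroup 2 (zpowers x) := fun y => by
    refine ⟨j, ?_⟩
    obtain ⟨i, hi⟩ := mem_zpowers_iff.1 y.2
    refine Subtype.ext ?_
    simp only [SubmonoidClass.coe_pow, OneMemClass.coe_one, ← hi]
    rw [← zpow_natCast, ← zpow_mul, mul_comm, zpow_mul, zpow_natCast, hx, one_zpow]
  obtain ⟨S, hS⟩ := hp.exists_le_sylow
  obtain ⟨g, hg⟩ := MulAction.exists_smul_eq G S P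
  have hm : g * x * g⁻¹ ∈ (P : Subgroup G) := by
    rw [← hg, Sylow.coe_subgroup_smul]
    exact ⟨x, hS (mem_zpowers x), rfl⟩
  rw [hPE] at hm
  obtain ⟨k, hk, e⟩ := hm
  have h1 : g * x * g⁻¹ * (g * x * g⁻¹) = 1 := by
    rw [← e, ← map_mul, sq_inE k hk, map_one]
  calc x * x = g⁻¹ * (g * x * g⁻¹ * (g * x * g⁻¹)) * g := by group
    _ = 1 := by rw [h1]; group

/-- The centralizer of an element of order three is not inside the involution centralizer. -/
theorem exists_not_commute (H : J1Hyp G) (hcard : Nat.card G = 175560) :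
    ∃ x : G, Commute x (H.φ (1, cc)) ∧ ¬ Commute x (H.φ zK) := by
  classical
  by_contra! hall
  obtain ⟨hw, hwc, hwt, hc3, hct, ht2, hc1, ht1⟩ := wp_facts
  set c := H.φ (1, cc) with hc
  set w := H.φ (1, wp) with hwdef
  haveI : Fact (Nat.Prime 3) := ⟨Nat.prime_three⟩
  have hco : orderOf c = 3 := by
    rw [hc, orderOf_injective H.φ H.inj]
    exact orderOf_eq_prime hc3 hc1
  have hcent : ∀ x, Commute x c → ∃ k, k * (1, cc) = (1, cc) * k ∧ H.φ k = x := fun x hx => by
    obtain ⟨k, rfl⟩ := H.cent x (hall x hx)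
    exact ⟨k, H.inj (by rw [map_mul, map_mul]; exact hx), rfl⟩
  have hwcw : w * c * w⁻¹ = c⁻¹ := by
    rw [hwdef, hc, ← map_inv, ← map_inv, ← map_mul, ← map_mul, hwc]
  set C := centralizer ({c} : Set G) with hC
  set Nz := normalizer (zpowers c : Set G) with hNz
  have hCcard : Nat.card C = 6 := by
    rw [← card_cent_cc, ← Nat.card_eq_finsetCard]
    symm
    refine Nat.card_congr (Equiv.ofBijective (fun k => ⟨H.φ k.1,
      mem_centralizer_singleton_iff.2 ?_⟩) ⟨fun a b h => Subtype.ext (H.inj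
        (congrArg Subtype.val h)), ?_⟩)
    · rw [hc, ← map_mul, ← map_mul, (Finset.mem_filter.1 k.2).2]
    · rintro ⟨x, hx⟩
      obtain ⟨k, hk, e⟩ := hcent x (mem_centralizer_singleton_iff.1 hx)
      exact ⟨⟨k, Finset.mem_filter.2 ⟨Finset.mem_univ _, hk⟩⟩, Subtype.ext e⟩
  have hNmem : ∀ g ∈ Nz, g * c * g⁻¹ = c ∨ g * c * g⁻¹ = c⁻¹ := by
    intro g hg
    obtain ⟨i, hi⟩ := mem_zpowers_iff.1 ((mem_normalizer_iff.1 hg c).1 (mem_zpowers c))
    rw [← zpow_mod_orderOf, hco] at hi
    have h3 : c ^ (2 : ℤ) = c⁻¹ := eq_inv_of_mul_eq_one_left (by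
      rw [zpow_ofNat, ← pow_succ, hc, ← map_pow, hc3, map_one])
    rcases (by omega : i % 3 = 0 ∨ i % 3 = 1 ∨ i % 3 = 2) with e | e | e <;>
      simp only [Nat.cast_ofNat, e] at hi
    · rw [zpow_zero, eq_comm, mul_inv_eq_one, mul_eq_left] at hi
      exact absurd (show c = 1 from hi) (fun h => by rw [h, orderOf_one] at hco; omega)
    · exact Or.inl (hi ▸ zpow_one c)
    · exact Or.inr (hi ▸ h3)
  have hwN : w ∈ Nz := by
    refine mem_normalizer_fintype fun x hx => ?_
    exact conj_mem_zpowers (by rw [hwcw]; exact inv_mem (mem_zpowers c)) hx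
  have hCN : C ≤ Nz := fun g hg => by
    refine mem_normalizer_fintype fun x hx => ?_
    refine conj_mem_zpowers ?_ hx
    rw [mem_centralizer_singleton_iff.1 hg, mul_inv_cancel_right]
    exact mem_zpowers c
  have hidx : (C.subgroupOf Nz).index = 2 := by
    refine index_eq_two_iff.2 ⟨⟨w, hwN⟩, fun b => ?_⟩
    simp only [mem_subgroupOf, hC, mem_centralizer_singleton_iff, Subgroup.coe_mul]
    have hne : c ≠ c⁻¹ := fun h => by
      have : c ^ 2 = 1 := by rw [pow_two]; nth_rewrite 1 [h]; exact inv_mul_cancel c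
      have := orderOf_dvd_of_pow_eq_one this
      rw [hco] at this; norm_num at this
    rcases hNmem b b.2 with h | h
    · refine Or.inr ⟨mul_inv_eq_iff_eq_mul.1 h, fun e => hne ?_⟩
      have : (b : G) * w * c * (b * w : G)⁻¹ = c := by rw [e]; group
      refine this.symm.trans ?_
      calc (b : G) * w * c * (b * w : G)⁻¹ = b * (w * c * w⁻¹) * (b : G)⁻¹ := by group
        _ = (b * c * (b : G)⁻¹)⁻¹ := by rw [hwcw]; group
        _ = c⁻¹ := by rw [h]
    · refine Or.inl ⟨?_, fun e => hne ?_⟩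
      · rw [← mul_inv_eq_iff_eq_mul]
        calc (b : G) * w * c * (b * w : G)⁻¹ = b * (w * c * w⁻¹) * (b : G)⁻¹ := by group
          _ = (b * c * (b : G)⁻¹)⁻¹ := by rw [hwcw]; group
          _ = c := by rw [h, inv_inv]
      · rw [← h]; exact (mul_inv_eq_iff_eq_mul.2 e).symm
  have hNcard : Nat.card Nz = 12 := by
    have := (C.subgroupOf Nz).index_mul_card
    rw [hidx, Nat.card_congr (subgroupOfEquivOfLe hCN).toEquiv, hCcard] at this
    omega
  have hfac : (Nat.card G).factorization 3 = 1 := by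
    have a := (Nat.Prime.pow_dvd_iff_le_factorization (p := 3) Nat.prime_three
      (n := Nat.card G) Nat.card_pos.ne' (k := 1)).1 (by rw [hcard]; norm_num)
    have b := (Nat.Prime.pow_dvd_iff_le_factorization (p := 3) Nat.prime_three
      (n := Nat.card G) Nat.card_pos.ne' (k := 2)).not.1 (by rw [hcard]; norm_num)
    omega
  let P : Sylow 3 G := Sylow.ofCard (zpowers c) (by rw [Nat.card_zpowers, hco, hfac, pow_one])
  have hPc : (P : Subgroup G) = zpowers c := Sylow.coe_ofCard _ _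
  have hn := card_sylow_modEq_one 3 G
  rw [P.card_eq_index_normalizer] at hn
  have hN : Subgroup.normalizer (P : Set G) = Nz := by rw [hNz, ← hPc]; rfl
  rw [hN] at hn
  have := Nz.card_mul_index
  rw [hNcard, hcard] at this
  have : Nz.index = 14630 := by omega
  rw [this] at hn
  exact absurd hn (by decide)

/-- An element of prime order in the centralizer of `c`, inverted by `t`. -/
theorem exists_inverted (H : J1Hyp G) (hcard : Nat.card G = 175560) :
    ∃ (p : ℕ) (y : G), p.Prime ∧ ¬ p * p ∣ Nat.card G ∧ 5 ≤ p ∧ orderOf y = p ∧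
      Commute y (H.φ (1, cc)) ∧ H.φ zK * y * (H.φ zK)⁻¹ = y⁻¹ := by
  classical
  obtain ⟨hw, hwc, hwt, hc3, hct, ht2, hc1, ht1⟩ := wp_facts
  obtain ⟨x, hxc, hxt⟩ := H.exists_not_commute hcard
  set c := H.φ (1, cc) with hc
  set t := H.φ zK with ht
  have htt : t * t = 1 := by rw [ht, ← map_mul, ht2, map_one]
  have htc : Commute t c := by
    show t * c = c * t
    rw [ht, hc, ← map_mul, ← map_mul, hct]
  have hti : t⁻¹ = t := inv_eq_of_mul_eq_one_right htt
  set z := t * (x * t * x⁻¹) with hz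
  have hzc : Commute z c :=
    htc.mul_left ((hxc.mul_left htc).mul_left hxc.inv_left)
  have hinv : ∀ i : ℕ, t * z ^ i * t⁻¹ = (z ^ i)⁻¹ := by
    intro i
    have h1 : t * z * t⁻¹ = z⁻¹ := by
      rw [hz, hti, ← mul_assoc, htt, one_mul]
      simp only [mul_inv_rev, inv_inv, hti, mul_assoc]
    rw [← conj_pow, h1, inv_pow]
  -- involutions commuting with `c` and `t`
  have hinvol : ∀ q : G, q * q = 1 → Commute q c → Commute q t → q = 1 ∨ q = t := by
    intro q hq2 hqc hqt
    obtain ⟨k, rfl⟩ := H.cent q hqt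
    have hk2 : k * k = 1 := H.inj (by rw [map_mul, map_one]; exact hq2)
    have hkc : k * (1, cc) = (1, cc) * k := H.inj (by rw [map_mul, map_mul]; exact hqc)
    have key : ∀ k : K5, k * k = 1 → k * (1, cc) = (1, cc) * k → k = 1 ∨ k = zK := by
      decide +kernel
    rcases key k hk2 hkc with rfl | rfl
    · exact Or.inl (map_one _)
    · exact Or.inr rfl
  have hz1 : z ≠ 1 := fun h => hxt (by
    rw [hz, mul_eq_one_iff_eq_inv', hti, mul_inv_eq_iff_eq_mul] at h
    exact h)
  set p := (orderOf z).minFac with hp'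
  have hp : p.Prime := Nat.minFac_prime fun h => hz1 (orderOf_eq_one_iff.1 h)
  have hpd : p ∣ orderOf z := Nat.minFac_dvd _
  have hoy : orderOf (z ^ (orderOf z / p)) = p := by
    rw [orderOf_pow' z (Nat.div_pos (Nat.le_of_dvd (orderOf_pos z) hpd) hp.pos).ne',
      Nat.gcd_eq_right (Nat.div_dvd_of_dvd hpd), Nat.div_div_self hpd (orderOf_pos z).ne']
  set y := z ^ (orderOf z / p) with hy
  have hyc : Commute y c := hzc.pow_left _
  have hyt : t * y * t⁻¹ = y⁻¹ := hinv _
  have hpN : p ∣ Nat.card G := hoy ▸ orderOf_dvd_natCard y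
  have hp2 : p ≠ 2 := by
    intro h
    have hyy : y * y = 1 := by rw [← pow_two, ← h, ← hoy, pow_orderOf_eq_one]
    have hcomm : Commute y t := by
      rw [inv_eq_of_mul_eq_one_right hyy, mul_inv_eq_iff_eq_mul] at hyt
      exact hyt.symm
    rcases hinvol y hyy hyc hcomm with e | e
    · rw [e, orderOf_one] at hoy; omega
    · have hzt : Commute z t := by rw [← e, hy]; exact (Commute.refl z).pow_right _
      have hzz : z = z⁻¹ := by
        have := hinv 1
        rwa [pow_one, ← hzt.eq, mul_inv_cancel_right] at this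
      have h2 : z * z = 1 := by nth_rewrite 1 [hzz]; exact inv_mul_cancel z
      rcases hinvol z h2 hzc hzt with e' | e'
      · exact hz1 e'
      · rw [hz, mul_eq_left] at e'
        have : t = 1 := by
          calc t = x⁻¹ * (x * t * x⁻¹) * x := by group
            _ = 1 := by rw [e']; group
        rw [ht, ← map_one H.φ] at this
        exact ht1 (H.inj this)
  have hp3 : p ≠ 3 := by
    intro h
    have hco : orderOf c = 3 := by
      haveI : Fact (Nat.Prime 3) := ⟨Nat.prime_three⟩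
      rw [hc, orderOf_injective H.φ H.inj]
      exact orderOf_eq_prime hc3 hc1
    have hmem := mem_zpowers_of_commute hp (by rw [h, hcard]; decide) (hco.trans h.symm) hoy
      hyc.symm
    obtain ⟨i, hi⟩ := mem_zpowers_iff.1 hmem
    have hcomm : Commute y t := hi ▸ htc.symm.zpow_left i
    rw [← hcomm.eq, mul_inv_cancel_right] at hyt
    have : y ^ 2 = 1 := by rw [pow_two]; nth_rewrite 1 [hyt]; exact inv_mul_cancel y
    have := orderOf_dvd_of_pow_eq_one this
    rw [hoy, h] at this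
    norm_num at this
  have hmem : p ∈ (Nat.card G).primeFactors := Nat.mem_primeFactors.2 ⟨hp, hpN, Nat.card_pos.ne'⟩
  refine ⟨p, y, hp, fun h2 => ?_, by
    rcases Nat.lt_or_ge p 5 with h | h
    · interval_cases p <;> first | omega | exact absurd hp (by decide)
    · exact h, hoy, hyc, hyt⟩
  rw [hcard] at h2
  have hle : p * p ≤ 175560 := Nat.le_of_dvd (by norm_num) h2
  have hp' : p ≤ 419 := by nlinarith
  have key : ∀ q, q ≤ 419 → 3 ≤ q → ¬ q * q ∣ 175560 := by decide +kernel
  exact key p hp' (by have := hp.two_le; omega) h2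

/-- The element of order five. -/
theorem exists_five (H : J1Hyp G) (hcard : Nat.card G = 175560) :
    ∃ y w' : G, orderOf y = 5 ∧ Commute y (H.φ (1, cc)) ∧
      H.φ zK * y * (H.φ zK)⁻¹ = y⁻¹ ∧ Commute y w' ∧
      (w' = H.φ (1, wp) ∨ w' = H.φ zK * H.φ (1, wp)) := by
  classical
  obtain ⟨hw, hwc, hwt, hc3, hct, ht2, hc1, ht1⟩ := wp_facts
  obtain ⟨p, y, hp, hp2, hp5, hy, hyc, hyt⟩ := H.exists_inverted hcard
  haveI : Fact p.Prime := ⟨hp⟩
  set c := H.φ (1, cc) with hc
  set t := H.φ zK with ht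
  set w := H.φ (1, wp) with hwdef
  have htt : t * t = 1 := by rw [ht, ← map_mul, ht2, map_one]
  have hww : w * w = 1 := by rw [hwdef, ← map_mul, hw, map_one]
  have hwcw : w * c * w⁻¹ = c⁻¹ := by
    rw [hwdef, hc, ← map_inv, ← map_inv, ← map_mul, ← map_mul, hwc]
  have hwtw : Commute w t := by
    show w * t = t * w
    rw [hwdef, ht, ← map_mul, ← map_mul, hwt]
  -- Frattini argument in the centralizer of `c`
  set C := centralizer ({c} : Set G) with hC
  have hyC : y ∈ C := mem_centralizer_singleton_iff.2 hyc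
  have hwyC : w * y * w⁻¹ ∈ C := by
    rw [mem_centralizer_singleton_iff]
    have h1 : Commute (w * y * w⁻¹) (w * c⁻¹ * w⁻¹) :=
      (hyc.inv_right).map (MulAut.conj w).toMonoidHom
    have h2 : w * c⁻¹ * w⁻¹ = c := by
      calc w * c⁻¹ * w⁻¹ = (w * c * w⁻¹)⁻¹ := by group
        _ = c := by rw [hwcw, inv_inv]
    rw [h2] at h1
    exact h1
  have hfac : (Nat.card C).factorization p = 1 := by
    have a := (hp.pow_dvd_iff_le_factorization (n := Nat.card C) Nat.card_pos.ne' (k := 1)).1 (by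
      rw [pow_one, ← hy]
      have h := orderOf_dvd_natCard (⟨y, hyC⟩ : C)
      rwa [Subgroup.orderOf_mk] at h)
    have b := (hp.pow_dvd_iff_le_factorization (n := Nat.card C) Nat.card_pos.ne' (k := 2)).not.1
      (fun h => hp2 ((pow_two p ▸ h).trans (card_subgroup_dvd_card C)))
    omega
  let S1 : Sylow p C := Sylow.ofCard (zpowers ⟨y, hyC⟩)
    (by rw [Nat.card_zpowers, Subgroup.orderOf_mk, hy, hfac, pow_one])
  let S2 : Sylow p C := Sylow.ofCard (zpowers ⟨w * y * w⁻¹, hwyC⟩) (by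
    rw [Nat.card_zpowers, Subgroup.orderOf_mk, hfac, pow_one,
      ← MulAut.conj_apply, ← MulEquiv.coe_toMonoidHom,
      orderOf_injective (MulAut.conj w).toMonoidHom (MulAut.conj w).injective, hy])
  obtain ⟨x, hx⟩ := MulAction.exists_smul_eq C S2 S1
  have hmy : ((x : G) * w) * y * ((x : G) * w)⁻¹ ∈ zpowers y := by
    have h : x * ⟨w * y * w⁻¹, hwyC⟩ * x⁻¹ ∈ (S1 : Subgroup C) := by
      rw [← hx, Sylow.coe_subgroup_smul, Sylow.coe_ofCard]
      exact ⟨_, mem_zpowers _, rfl⟩
    rw [Sylow.coe_ofCard] at h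
    obtain ⟨i, hi⟩ := mem_zpowers_iff.1 h
    refine mem_zpowers_iff.2 ⟨i, ?_⟩
    have := congrArg (fun q : C => (q : G)) hi
    simp only [SubgroupClass.coe_zpow, Subgroup.coe_mul, Subgroup.coe_inv] at this
    rw [this]; group
  set m := (x : G) * w with hm
  have hmc : m * c * m⁻¹ = c⁻¹ := by
    have hxc : Commute (x : G) c := mem_centralizer_singleton_iff.1 x.2
    calc m * c * m⁻¹ = (x : G) * (w * c * w⁻¹) * (x : G)⁻¹ := by rw [hm]; group
      _ = c⁻¹ := by rw [hwcw, hxc.inv_right.eq, mul_inv_cancel_right]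
  set Ny := normalizer (zpowers y : Set G) with hNy
  set M := Ny ⊓ normalizer (zpowers c : Set G) with hM
  have hNyI : ∀ g, g * y * g⁻¹ ∈ zpowers y → g ∈ Ny := fun g hg =>
    mem_normalizer_fintype fun q hq => conj_mem_zpowers hg hq
  have hNcI : ∀ g, g * c * g⁻¹ ∈ zpowers c → g ∈ normalizer (zpowers c : Set G) := fun g hg =>
    mem_normalizer_fintype fun q hq => conj_mem_zpowers hg hq
  have htc : t * c * t⁻¹ = c := by
    rw [ht, hc, ← map_inv, ← map_mul, ← map_mul]
    exact congrArg H.φ (by rw [← hct, mul_inv_cancel_right])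
  have htM : t ∈ M := ⟨hNyI t (hyt ▸ inv_mem (mem_zpowers y)), hNcI t (by rw [htc]; exact mem_zpowers c)⟩
  have hmM : m ∈ M := ⟨hNyI m hmy, hNcI m (hmc ▸ inv_mem (mem_zpowers c))⟩
  set X : Subgroup M := C.subgroupOf M with hX
  have hco : orderOf c = 3 := by
    haveI : Fact (Nat.Prime 3) := ⟨Nat.prime_three⟩
    rw [hc, orderOf_injective H.φ H.inj]
    exact orderOf_eq_prime hc3 hc1
  have hne : c ≠ c⁻¹ := fun h => by
    have : c ^ 2 = 1 := by rw [pow_two]; nth_rewrite 1 [h]; exact inv_mul_cancel c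
    have := orderOf_dvd_of_pow_eq_one this
    rw [hco] at this; norm_num at this
  have hNmem : ∀ g ∈ M, g * c * g⁻¹ = c ∨ g * c * g⁻¹ = c⁻¹ := by
    intro g hg
    obtain ⟨i, hi⟩ := mem_zpowers_iff.1 ((mem_normalizer_iff.1 hg.2 c).1 (mem_zpowers c))
    rw [← zpow_mod_orderOf, hco] at hi
    have h3 : c ^ (2 : ℤ) = c⁻¹ := eq_inv_of_mul_eq_one_left (by
      rw [zpow_ofNat, ← pow_succ, hc, ← map_pow, hc3, map_one])
    rcases (by omega : i % 3 = 0 ∨ i % 3 = 1 ∨ i % 3 = 2) with e | e | e <;>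
      simp only [Nat.cast_ofNat, e] at hi
    · rw [zpow_zero, eq_comm, mul_inv_eq_one, mul_eq_left] at hi
      exact absurd (show c = 1 from hi) (fun h => by rw [h, orderOf_one] at hco; omega)
    · exact Or.inl (hi ▸ zpow_one c)
    · exact Or.inr (hi ▸ h3)
  have hidx : X.index = 2 := by
    refine index_eq_two_iff.2 ⟨⟨m, hmM⟩, fun b => ?_⟩
    simp only [hX, mem_subgroupOf, hC, mem_centralizer_singleton_iff, Subgroup.coe_mul]
    rcases hNmem b b.2 with h | h
    · refine Or.inr ⟨mul_inv_eq_iff_eq_mul.1 h, fun e => hne ?_⟩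
      have : (b : G) * m * c * (b * m : G)⁻¹ = c := by rw [e]; group
      refine this.symm.trans ?_
      calc (b : G) * m * c * (b * m : G)⁻¹ = b * (m * c * m⁻¹) * (b : G)⁻¹ := by group
        _ = (b * c * (b : G)⁻¹)⁻¹ := by rw [hmc]; group
        _ = c⁻¹ := by rw [h]
    · refine Or.inl ⟨?_, fun e => hne ?_⟩
      · rw [← mul_inv_eq_iff_eq_mul]
        calc (b : G) * m * c * (b * m : G)⁻¹ = b * (m * c * m⁻¹) * (b : G)⁻¹ := by group
          _ = (b * c * (b : G)⁻¹)⁻¹ := by rw [hmc]; group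
          _ = c := by rw [h, inv_inv]
      · rw [← h]; exact (mul_inv_eq_iff_eq_mul.2 e).symm
  haveI : Fact (Nat.Prime 2) := ⟨Nat.prime_two⟩
  have ht2' : IsPGroup 2 (zpowers (⟨t, htM⟩ : M)) := fun q => ⟨1, by
    obtain ⟨i, hi⟩ := mem_zpowers_iff.1 q.2
    refine Subtype.ext ?_
    simp only [pow_one, SubmonoidClass.coe_pow, OneMemClass.coe_one, ← hi]
    rw [← zpow_natCast, ← zpow_mul, mul_comm, zpow_mul, zpow_natCast,
      show (⟨t, htM⟩ : M) ^ 2 = 1 from Subtype.ext (by rw [SubmonoidClass.coe_pow, pow_two]; exact htt),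
      one_zpow]⟩
  obtain ⟨S, hS⟩ := ht2'.exists_le_sylow
  obtain ⟨s, hsS, hsX⟩ : ∃ s ∈ (S : Subgroup M), s ∉ X := by
    by_contra! h
    have h2 := Subgroup.index_dvd_of_le (H := (S : Subgroup M)) (K := X) h
    rw [hidx] at h2
    exact S.not_dvd_index h2
  have hsq : ∀ a ∈ (S : Subgroup M), a * a = 1 := fun a ha => by
    obtain ⟨j, hj⟩ := S.2 ⟨a, ha⟩
    have hj' : (a : G) ^ 2 ^ j = 1 := by
      have := congrArg (fun q : (S : Subgroup M) => ((q : M) : G)) hj
      simpa using this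
    exact Subtype.ext (H.sq_of_two_power hj')
  have hst : Commute (s : G) t := by
    have htS : (⟨t, htM⟩ : M) ∈ (S : Subgroup M) := hS (mem_zpowers _)
    have e3 := hsq _ ((S : Subgroup M).mul_mem hsS htS)
    have e : s * ⟨t, htM⟩ = ⟨t, htM⟩ * s := by
      rw [← inv_eq_of_mul_eq_one_right e3, mul_inv_rev,
        inv_eq_of_mul_eq_one_right (hsq _ hsS), inv_eq_of_mul_eq_one_right (hsq _ htS)]
    exact congrArg Subtype.val e
  obtain ⟨k, hk⟩ := H.cent _ hst
  have hsc : (s : G) * c * (s : G)⁻¹ = c⁻¹ := (hNmem s s.2).resolve_left fun h => hsX (by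
    rw [hX, mem_subgroupOf, hC, mem_centralizer_singleton_iff]
    exact mul_inv_eq_iff_eq_mul.1 h)
  have hkc : k * (1, cc) * k⁻¹ = ((1 : Multiplicative (ZMod 2)), cc)⁻¹ := H.inj (by
    rw [map_mul, map_mul, map_inv, map_inv, hk]; exact hsc)
  obtain ⟨i, hi⟩ := inv_cc_forms k hkc
  have hwy : w * y * w⁻¹ ∈ zpowers y := by
    have hsN : (s : G) ∈ Ny := s.2.1
    have hcN : c ^ (i : ℕ) ∈ Ny := pow_mem (hNyI c (by
      rw [hyc.symm.eq, mul_inv_cancel_right]; exact mem_zpowers y)) _
    have hwN : w ∈ Ny := by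
      rw [← hk] at hsN
      rcases hi with e | e <;> rw [e, map_mul] at hsN
      · rw [map_pow, ← hc, ← hwdef] at hsN
        simpa using Ny.mul_mem (Ny.inv_mem hcN) hsN
      · rw [map_mul, map_pow, ← hc, ← hwdef, ← ht] at hsN
        have h1 : c ^ (i : ℕ) * t ∈ Ny := Ny.mul_mem hcN htM.1
        simpa [mul_assoc] using Ny.mul_mem (Ny.inv_mem h1) hsN
    exact (mem_normalizer_iff.1 hwN y).1 (mem_zpowers y)
  obtain ⟨w', hw'y, hw', hw'2⟩ : ∃ w', Commute y w' ∧
      (w' = w ∨ w' = t * w) ∧ orderOf w' = 2 := by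
    have hw1 : w ≠ 1 := fun h => by
      rw [h, one_mul, inv_one, mul_one] at hwcw; exact hne hwcw
    have htw1 : t * w ≠ 1 := fun h => by
      have : w = t := by rw [← inv_eq_of_mul_eq_one_right h, inv_eq_of_mul_eq_one_right htt]
      rw [this, htc] at hwcw; exact hne hwcw
    have htw2 : t * w * (t * w) = 1 := by
      rw [mul_assoc, ← mul_assoc w, hwtw.eq, mul_assoc t w, hww, mul_one, htt]
    rcases conj_eq_or_inv hp hy hww hwy with h | h
    · exact ⟨w, (mul_inv_eq_iff_eq_mul.1 h).symm, Or.inl rfl,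
        orderOf_eq_prime (by rw [pow_two]; exact hww) hw1⟩
    · refine ⟨t * w, ?_, Or.inr rfl, orderOf_eq_prime (by rw [pow_two]; exact htw2) htw1⟩
      have : t * w * y * (t * w)⁻¹ = y := by
        calc t * w * y * (t * w)⁻¹ = t * (w * y * w⁻¹) * t⁻¹ := by group
          _ = (t * y * t⁻¹)⁻¹ := by rw [h]; group
          _ = y := by rw [hyt, inv_inv]
      exact (mul_inv_eq_iff_eq_mul.1 this).symm
  refine ⟨y, w', ?_, hyc, hyt, hw'y, hw'⟩
  obtain ⟨g, hg⟩ := isConj_iff.1 (H.one w' hw'2)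
  have hcomm : Commute (g⁻¹ * y * g) t := by
    have := hw'y.map (MulAut.conj g⁻¹).toMonoidHom
    simp only [MulEquiv.coe_toMonoidHom, MulAut.conj_apply, inv_inv] at this
    rwa [← hg, show g⁻¹ * (g * t * g⁻¹) * g = t by group] at this
  obtain ⟨j, hj⟩ := H.cent _ hcomm
  have hoj : orderOf j = p := by
    have h1 : orderOf (g⁻¹ * y * g) = p := by
      rw [← hy, show g⁻¹ * y * g = (MulAut.conj g⁻¹).toMonoidHom y by simp]
      exact orderOf_injective _ (MulAut.conj g⁻¹).injective y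
    rw [← hj, orderOf_injective H.φ H.inj] at h1
    exact h1
  have hd : p ∣ 120 := card_K5 ▸ hoj ▸ orderOf_dvd_natCard j
  have hle : p ≤ 120 := Nat.le_of_dvd (by norm_num) hd
  have key : ∀ q, q ≤ 120 → q.Prime → q ∣ 120 → 5 ≤ q → q = 5 := by decide +kernel
  rw [hy]
  exact key p hle hp hd hp5

end J1Hyp

end CfsgLib.J1Order
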