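import Cfsg.Agent.Lib.J1Order.Unique.Relations

/-!
# A simple group with an involution centralizer `2 × A₅` is unique
-/

set_option autoImplicit false
set_option maxRecDepth 100000
set_option synthInstance.maxSize 4000
set_option synthInstance.maxHeartbeats 400000

namespace CfsgLib.J1Order

open CfsgLib.J1Unique CfsgLib.SporRecognition.CosetCert Subgroup

/-- A group generated by four elements satisfying the relations has at most `1463 · |K|` elements,
for a subgroup `K` containing the first three. -/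
theorem card_le_of_relations {M : Type*} [Group M] (f : Fin 4 → M)
    (hgen : Subgroup.closure (Set.range f) = ⊤) (hW : ∀ w ∈ allW 1 Zb, evalW f w = 1)
    (K : Subgroup M) (h0 : f 0 ∈ K) (h1 : f 1 ∈ K) (h2 : f 2 ∈ K) :
    Nat.card M ≤ 1463 * Nat.card K := by
  have hWH : ∀ w ∈ subW, evalW f w • ((1 : M) : M ⧸ K) = ((1 : M) : M ⧸ K) := by
    intro w hw
    rw [MulAction.Quotient.smul_coe, smul_eq_mul, mul_one]
    refine QuotientGroup.eq.mpr ?_
    simp only [subW, List.mem_cons, List.not_mem_nil, or_false] at hw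
    rcases hw with rfl | rfl | rfl <;> simpa [evalW_eq_prod, Tl, Cl, Al]
  obtain ⟨s, hs0, hs⟩ := CertB.sect f ((1 : M) : M ⧸ K) hW hWH
  set S : Set (M ⧸ K) := s '' Set.Iio 1463 with hS
  have hfin : S.Finite := (Set.finite_Iio 1463).image _
  have hgen1 : ∀ a, (fun x => f a • x) '' S = S := by
    intro a
    have hsub : (fun x => f a • x) '' S ⊆ S := by
      rintro _ ⟨_, ⟨u, hu, rfl⟩, rfl⟩
      obtain ⟨u', hu', e⟩ := hs a u hu
      exact ⟨u', hu', e.symm⟩
    refine Set.eq_of_subset_of_ncard_le hsub ?_ hfin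
    rw [Set.ncard_image_of_injective _ (MulAction.injective _)]
  have hall : ∀ g : M, (fun x => g • x) '' S = S := by
    intro g
    have hg : g ∈ Subgroup.closure (Set.range f) := hgen ▸ Subgroup.mem_top g
    induction hg using Subgroup.closure_induction with
    | mem x hx =>
      obtain ⟨a, rfl⟩ := hx
      exact hgen1 a
    | one => simp
    | mul x y _ _ hx hy =>
      have : (fun z => (x * y) • z) '' S = (fun z => x • z) '' ((fun z => y • z) '' S) := by
        simp only [Set.image_image, mul_smul]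
      rw [this, hy, hx]
    | inv x _ hx =>
      have : (fun z => x⁻¹ • z) '' ((fun z => x • z) '' S) = S := by
        simp only [Set.image_image, inv_smul_smul, Set.image_id']
      rwa [hx] at this
  have huniv : S = Set.univ := Set.eq_univ_of_forall fun q => by
    obtain ⟨g, rfl⟩ := QuotientGroup.mk_surjective q
    rw [← hall g]
    exact ⟨_, ⟨0, by norm_num [Set.mem_Iio], hs0⟩, by simp⟩
  have hidx : K.index ≤ 1463 := by
    rw [Subgroup.index, ← Set.ncard_univ, ← huniv, hS]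
    refine (Set.ncard_image_le (Set.finite_Iio 1463)).trans ?_
    rw [← Finset.coe_Iio, Set.ncard_coe_finset, Nat.card_Iio]
  rw [← K.index_mul_card]
  exact Nat.mul_le_mul hidx le_rfl

theorem map_evalW {α M M' : Type*} [Group M] [Group M'] (ψ : M →* M') (f : α → M)
    (w : List (α × Bool)) : ψ (evalW f w) = evalW (fun a => ψ (f a)) w := by
  rw [evalW_eq_prod, evalW_eq_prod, map_list_prod, List.map_map]
  congr 1
  refine List.map_congr_left fun x _ => ?_
  rcases x with ⟨a, _ | _⟩ <;> simp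

theorem simple_K5_part (N : Subgroup A5) [N.Normal] : N = ⊥ ∨ N = ⊤ :=
  (inferInstance : N.Normal).eq_bot_or_eq_top

namespace Amalgam

variable {G : Type*} [Group G]

/-- The subgroup generated. -/
def gen (A : Amalgam G) : Subgroup G := Subgroup.closure (Set.range A.gens)

theorem n_mem (A : Amalgam G) : A.n ∈ A.gen := Subgroup.subset_closure ⟨3, rfl⟩

theorem range_le (A : Amalgam G) : A.φ.range ≤ A.gen := by
  rintro _ ⟨⟨e, x⟩, rfl⟩
  have ht : A.φ zK ∈ A.gen := Subgroup.subset_closure ⟨0, rfl⟩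
  have hc : A.φ (1, cc) ∈ A.gen := Subgroup.subset_closure ⟨1, rfl⟩
  have ha : A.φ (1, aa) ∈ A.gen := Subgroup.subset_closure ⟨2, rfl⟩
  have hx : A.φ (1, x) ∈ A.gen := by
    obtain ⟨w, -, hw⟩ := List.any_eq_true.1 (words60_cover x)
    rw [← of_decide_eq_true hw]
    show A.φ (MonoidHom.inr (Multiplicative (ZMod 2)) A5 _) ∈ _
    rw [map_list_prod, map_list_prod]
    refine list_prod_mem fun g hg => ?_
    simp only [List.mem_map] at hg
    obtain ⟨_, ⟨_, ⟨b, -, rfl⟩, rfl⟩, rfl⟩ := hg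
    cases b
    · exact hc
    · exact ha
  have he : A.φ (e, 1) ∈ A.gen := by
    rcases fst_cases e with rfl | rfl
    · exact (map_one A.φ).symm ▸ A.gen.one_mem
    · exact ht
  have := A.gen.mul_mem he hx
  rwa [← map_mul, Prod.mk_mul_mk, mul_one, one_mul] at this

/-- A normal subgroup of the generated subgroup with an element of order two is everything. -/
theorem eq_top_of_zK (A : Amalgam G) {N : Subgroup A.gen} [hN : N.Normal]
    (h : (⟨A.φ zK, A.range_le ⟨_, rfl⟩⟩ : A.gen) ∈ N) : N = ⊤ := by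
  let ψ : K5 →* A.gen := A.φ.codRestrict A.gen fun k => A.range_le ⟨k, rfl⟩
  let n' : A.gen := ⟨A.n, A.n_mem⟩
  have hu : ψ (1, uu) ∈ N := by
    have := hN.conj_mem _ h n'
    rwa [show n' * ⟨A.φ zK, A.range_le ⟨_, rfl⟩⟩ * n'⁻¹ = ψ (1, uu) from Subtype.ext A.nt] at this
  have hP : ∀ x : A5, ψ (1, x) ∈ N := by
    let Nx : Subgroup A5 := (N.comap ψ).comap (MonoidHom.inr _ A5)
    haveI : Nx.Normal := Subgroup.Normal.comap (Subgroup.Normal.comap hN _) _
    rcases simple_K5_part Nx with e | e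
    · have : uu ∈ Nx := hu
      rw [e, Subgroup.mem_bot] at this
      exact absurd this (by decide +kernel)
    · exact fun x => (e ▸ Subgroup.mem_top x : x ∈ Nx)
  have hn : n' ∈ N := by
    have h1 := N.mul_mem (hP cc) (hN.conj_mem _ (N.inv_mem (hP cc)) n')
    have h2 : ψ (1, cc) * (n' * (ψ (1, cc))⁻¹ * n'⁻¹) = n' := Subtype.ext (by
      show A.φ (1, cc) * (A.n * (A.φ (1, cc))⁻¹ * A.n⁻¹) = A.n
      rw [← mul_assoc, ← mul_assoc, A.cn, pow_two, mul_inv_cancel_right])
    rwa [h2] at h1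
  rw [eq_top_iff]
  rintro ⟨g, hg⟩ -
  suffices g ∈ N.map A.gen.subtype by
    obtain ⟨y, hy, e⟩ := this
    exact (Subtype.ext e : y = (⟨g, hg⟩ : A.gen)) ▸ hy
  refine (Subgroup.closure_le _).2 ?_ hg
  rintro _ ⟨a, rfl⟩
  fin_cases a
  · exact ⟨_, h, rfl⟩
  · exact ⟨_, hP cc, rfl⟩
  · exact ⟨_, hP aa, rfl⟩
  · exact ⟨n', hn, rfl⟩

variable [Finite G]

/-- The generated subgroup is simple. -/
theorem isSimple_gen (A : Amalgam G) : IsSimpleGroup A.gen := by
  classical
  let ψ : K5 →* A.gen := A.φ.codRestrict A.gen fun k => A.range_le ⟨k, rfl⟩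
  let n' : A.gen := ⟨A.n, A.n_mem⟩
  haveI : Nontrivial A.gen := ⟨⟨ψ zK, 1, fun e => by
    have e' : A.φ zK = A.φ 1 := (congrArg Subtype.val e).trans (map_one A.φ).symm
    exact absurd (A.inj e') (by decide)⟩⟩
  refine { eq_bot_or_eq_top_of_normal := fun N hN => ?_ }
  -- normal subgroups of `2 × A₅` avoiding the involution
  by_cases h : (ψ zK) ∈ N
  · exact Or.inr (A.eq_top_of_zK h)
  left
  have hfree : ∀ x ∈ N, Commute (x : G) (A.φ zK) → x = 1 := by
    intro x hx hcomm
    obtain ⟨k, hk⟩ := A.cent _ hcomm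
    have hk' : ψ k = x := Subtype.ext hk
    let Nx : Subgroup A5 := (N.comap ψ).comap (MonoidHom.inr _ A5)
    haveI : Nx.Normal := Subgroup.Normal.comap (Subgroup.Normal.comap hN _) _
    rcases simple_K5_part Nx with e | e
    · -- the square of `k` lies in the inner part
      have hsq : k.2 * k.2 ∈ Nx := by
        show ψ (1, k.2 * k.2) ∈ N
        have : ((1 : Multiplicative (ZMod 2)), k.2 * k.2) = k * k :=
          Prod.ext ((by decide : ∀ a : Multiplicative (ZMod 2), (1 : Multiplicative (ZMod 2)) = a * a) k.1) rfl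
        rw [this, map_mul, hk']
        exact N.mul_mem hx hx
      rw [e, Subgroup.mem_bot] at hsq
      -- so `k` is the product of `k.1` and an involution commuting with every conjugate
      have hcomm' : ∀ a : A5, ψ (1, a * k.2 * a⁻¹ * k.2⁻¹) ∈ N := fun a => by
        have : ((1 : Multiplicative (ZMod 2)), a * k.2 * a⁻¹ * k.2⁻¹) =
            ((1 : Multiplicative (ZMod 2)), a) * k * (1, a)⁻¹ * k⁻¹ :=
          Prod.ext (by simp) rfl
        rw [this, map_mul, map_mul, map_mul, map_inv, map_inv, hk']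
        exact N.mul_mem (hN.conj_mem _ hx _) (N.inv_mem hx)
      have hall : ∀ a : A5, a * k.2 * a⁻¹ * k.2⁻¹ = 1 := fun a => by
        have : a * k.2 * a⁻¹ * k.2⁻¹ ∈ Nx := hcomm' a
        rwa [e, Subgroup.mem_bot] at this
      have key : ∀ b : A5, cc * b * cc⁻¹ * b⁻¹ = 1 → aa * b * aa⁻¹ * b⁻¹ = 1 → b = 1 := by
        decide +kernel
      have hk2 : k.2 = 1 := key _ (hall cc) (hall aa)
      rcases fst_cases k.1 with h1 | h1
      · rw [← hk', show k = 1 from Prod.ext h1 hk2, map_one]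
      · exact absurd (by rw [← show k = zK from Prod.ext h1 hk2, hk']; exact hx) h
    · exfalso
      refine h ?_
      have hu : ψ (1, uu) ∈ N := (e ▸ Subgroup.mem_top uu : uu ∈ Nx)
      have h3 := hN.conj_mem _ hu n'⁻¹
      rwa [show n'⁻¹ * ψ (1, uu) * n'⁻¹⁻¹ = ψ zK from Subtype.ext (by
        show A.n⁻¹ * A.φ (1, uu) * A.n⁻¹⁻¹ = A.φ zK
        rw [← A.nt]; group)] at h3
  -- the involution inverts `N`
  set t := ψ zK with ht
  have htt : t * t = 1 := by
    rw [ht, ← map_mul, ← map_one ψ]; exact congrArg ψ (by decide +kernel)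
  have hinv : ∀ x ∈ N, t * x * t⁻¹ = x⁻¹ := by
    let F : N → N := fun x => ⟨(x : A.gen)⁻¹ * (t * x * t⁻¹),
      N.mul_mem (N.inv_mem x.2) (hN.conj_mem _ x.2 t)⟩
    have hF : Function.Injective F := by
      rintro ⟨x, hx⟩ ⟨y, hy⟩ e
      have e' : x⁻¹ * (t * x * t⁻¹) = y⁻¹ * (t * y * t⁻¹) := congrArg Subtype.val e
      have h1 : t * (x * y⁻¹) * t⁻¹ = x * y⁻¹ := by
        calc t * (x * y⁻¹) * t⁻¹ = x * (x⁻¹ * (t * x * t⁻¹)) * (t * y * t⁻¹)⁻¹ := by group
          _ = x * y⁻¹ := by rw [e']; group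
      have h2 : x * y⁻¹ = 1 := hfree _ (N.mul_mem hx (N.inv_mem hy)) (by
        have := congrArg Subtype.val (mul_inv_eq_iff_eq_mul.1 h1)
        exact this.symm)
      exact Subtype.ext (mul_inv_eq_one.1 h2)
    intro x hx
    obtain ⟨⟨y, hy⟩, e⟩ := Finite.surjective_of_injective hF ⟨x, hx⟩
    have e' : y⁻¹ * (t * y * t⁻¹) = x := congrArg Subtype.val e
    rw [← e']
    calc t * (y⁻¹ * (t * y * t⁻¹)) * t⁻¹ = (t * y⁻¹ * t⁻¹) * ((t * t) * y * (t * t)⁻¹) := by group
      _ = (y⁻¹ * (t * y * t⁻¹))⁻¹ := by rw [htt]; group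
  have hinv' : ∀ x ∈ N, ∀ g : A.gen, (g * t * g⁻¹) * x * (g * t * g⁻¹)⁻¹ = x⁻¹ := by
    intro x hx g
    calc (g * t * g⁻¹) * x * (g * t * g⁻¹)⁻¹ = g * (t * (g⁻¹ * x * g) * t⁻¹) * g⁻¹ := by group
      _ = x⁻¹ := by
        rw [hinv _ (by simpa using hN.conj_mem _ hx g⁻¹)]; group
  rw [eq_bot_iff]
  intro x hx
  rw [Subgroup.mem_bot]
  refine hfree x hx ?_
  have hu := hinv' x hx n'
  have h3 := hinv' x hx (n' ^ 3)
  have hv : n' ^ 3 * t * (n' ^ 3)⁻¹ = t * (n' * t * n'⁻¹) := Subtype.ext (by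
    show A.n ^ 3 * A.φ zK * (A.n ^ 3)⁻¹ = A.φ zK * (A.n * A.φ zK * A.n⁻¹)
    rw [A.conj_facts.2.2, A.nt, map_mul])
  have h4 : x⁻¹ = x := by
    rw [hv] at h3
    calc x⁻¹ = (t * (n' * t * n'⁻¹)) * x * (t * (n' * t * n'⁻¹))⁻¹ := h3.symm
      _ = t * ((n' * t * n'⁻¹) * x * (n' * t * n'⁻¹)⁻¹) * t⁻¹ := by group
      _ = (t * x * t⁻¹)⁻¹ := by rw [hu]; group
      _ = x := by rw [hinv x hx, inv_inv]
  have h5 := hinv x hx
  rw [h4, mul_inv_eq_iff_eq_mul] at h5
  exact (congrArg Subtype.val h5).symm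

/-- The hypothesis for the generated subgroup. -/
theorem exists_hyp_gen (A : Amalgam G) : Nonempty (J1Hyp A.gen) := by
  haveI := A.isSimple_gen
  let ψ : K5 →* A.gen := A.φ.codRestrict A.gen fun k => A.range_le ⟨k, rfl⟩
  have hψ : ∀ k, (ψ k : G) = A.φ k := fun k => rfl
  have hinj : Function.Injective ψ := fun a b e => A.inj (congrArg Subtype.val e)
  have hr : Subgroup.centralizer ({ψ zK} : Set A.gen) = ψ.range := by
    ext x
    rw [Subgroup.mem_centralizer_singleton_iff]
    constructor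
    · intro hx
      obtain ⟨k, hk⟩ := A.cent _ (congrArg Subtype.val hx)
      exact ⟨k, Subtype.ext hk⟩
    · rintro ⟨k, rfl⟩
      rw [← map_mul, ← map_mul]
      exact congrArg ψ (Prod.ext (mul_comm _ _) (by simp [zK]))
  have ho : orderOf (ψ zK) = 2 := by
    rw [orderOf_injective ψ hinj]
    exact orderOf_eq_prime (p := 2) (by decide +kernel) (by decide +kernel)
  obtain ⟨H, -⟩ := J1Order.exists_hyp ho
    (fun h => A.dvd16 (h.trans (Subgroup.card_subgroup_dvd_card _)))
    ((MulEquiv.subgroupCongr hr).trans (MonoidHom.ofInjective hinj).symm)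
  exact ⟨H⟩

/-- The four elements generate. -/
theorem gen_eq_top [IsSimpleGroup G] (A : Amalgam G) : A.gen = ⊤ := by
  haveI := A.isSimple_gen
  obtain ⟨H⟩ := A.exists_hyp_gen
  exact (Subgroup.card_eq_iff_eq_top _).1 (H.card_eq.trans A.toJ1Hyp.card_eq.symm)

end Amalgam

/-- Two simple groups with involution centralizers `2 × A₅` are isomorphic. -/
theorem nonempty_mulEquiv {G H : Type*} [Group G] [Finite G] [IsSimpleGroup G] [Group H] [Finite H]
    [IsSimpleGroup H] (hG : J1Hyp G) (hH : J1Hyp H) : Nonempty (G ≃* H) := by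
  obtain ⟨A⟩ := hG.exists_amalgam
  obtain ⟨B⟩ := hH.exists_amalgam
  have cG : Nat.card G = 175560 := A.toJ1Hyp.card_eq
  have cH : Nat.card H = 175560 := B.toJ1Hyp.card_eq
  let f₀ : Fin 4 → G × H := fun a => (A.gens a, B.gens a)
  set M := Subgroup.closure (Set.range f₀) with hM
  let f : Fin 4 → M := fun a => ⟨f₀ a, Subgroup.subset_closure ⟨a, rfl⟩⟩
  have hgen : Subgroup.closure (Set.range f) = ⊤ := by
    have : Set.range f = (Subtype.val : M → G × H) ⁻¹' Set.range f₀ := by
      ext x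
      exact ⟨fun ⟨a, e⟩ => ⟨a, congrArg Subtype.val e⟩, fun ⟨a, e⟩ => ⟨a, Subtype.ext e⟩⟩
    rw [this]
    exact Subgroup.closure_closure_coe_preimage
  have hW : ∀ w ∈ allW 1 Zb, evalW f w = 1 := by
    intro w hw
    refine Subtype.ext ?_
    show M.subtype (evalW f w) = 1
    refine Prod.ext ?_ ?_
    · show MonoidHom.fst G H (M.subtype (evalW f w)) = 1
      rw [map_evalW, map_evalW]
      exact A.relations cG w hw
    · show MonoidHom.snd G H (M.subtype (evalW f w)) = 1
      rw [map_evalW, map_evalW]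
      exact B.relations cH w hw
  set K : Subgroup M := (A.φ.prod B.φ).range.subgroupOf M with hK
  have hKcard : Nat.card K ≤ 120 := by
    rw [← card_K5]
    have h1 : Nat.card K ≤ Nat.card (A.φ.prod B.φ).range :=
      Nat.card_le_card_of_injective (fun x => (⟨((x : M) : G × H), x.2⟩ : (A.φ.prod B.φ).range))
        fun x y e => Subtype.ext (Subtype.ext (congrArg Subtype.val e :))
    exact h1.trans (Nat.card_le_card_of_surjective _ (A.φ.prod B.φ).rangeRestrict_surjective)
  have hle := card_le_of_relations f hgen hW K ⟨zK, rfl⟩ ⟨(1, cc), rfl⟩ ⟨(1, aa), rfl⟩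
  have hle' : Nat.card M ≤ 175560 := hle.trans ((Nat.mul_le_mul_left _ hKcard).trans (by norm_num))
  let p1 : M →* G := (MonoidHom.fst G H).comp M.subtype
  let p2 : M →* H := (MonoidHom.snd G H).comp M.subtype
  have h1 : Function.Surjective p1 := MonoidHom.range_eq_top.1 (eq_top_iff.2 (by
    rw [← A.gen_eq_top]
    exact (Subgroup.closure_le _).2 (by rintro _ ⟨a, rfl⟩; exact ⟨f a, rfl⟩)))
  have h2 : Function.Surjective p2 := MonoidHom.range_eq_top.1 (eq_top_iff.2 (by
    rw [← B.gen_eq_top]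
    exact (Subgroup.closure_le _).2 (by rintro _ ⟨a, rfl⟩; exact ⟨f a, rfl⟩)))
  have b1 : Function.Bijective p1 :=
    h1.bijective_of_nat_card_le (hle'.trans cG.ge)
  have b2 : Function.Bijective p2 :=
    h2.bijective_of_nat_card_le (hle'.trans cH.ge)
  exact ⟨(MulEquiv.ofBijective p1 b1).symm.trans (MulEquiv.ofBijective p2 b2)⟩

end CfsgLib.J1Order
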