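import Cfsg.Agent.Lib.J1Order.Unique.Amalgam
import Cfsg.Agent.Lib.J1Order.Unique.Cent5
import Cfsg.Agent.Lib.J1Order.Unique.CertA
import Cfsg.Agent.Lib.J1Order.Unique.CertB
import Cfsg.Agent.Lib.J1Order.Unique.CertC
import Cfsg.Agent.Lib.J1Order.Unique.CertD

/-!
# The relations satisfied by a group with an involution centralizer `2 × A₅`
-/

set_option autoImplicit false
set_option maxRecDepth 100000
set_option synthInstance.maxSize 4000
set_option synthInstance.maxHeartbeats 400000

namespace CfsgLib.J1Order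

open CfsgLib.J1Unique CfsgLib.SporRecognition.CosetCert

/-- The values of the letters in `2 × A₅`. -/
def gK : Fin 4 → K5 := ![zK, (1, cc), (1, aa), 1]

/-- The conjugating element `cc⁻¹ * aa`. -/
def kK : K5 := (1, cc⁻¹ * aa)

theorem word_values : evalW gK Uw = ((1 : Multiplicative (ZMod 2)), uu) ∧
    evalW gK U1w = ((1 : Multiplicative (ZMod 2)), u1) ∧ evalW gK Kw = kK ∧
    evalW gK Za = ((1 : Multiplicative (ZMod 2)), aa) ∧
    evalW gK Zb = ((1 : Multiplicative (ZMod 2)), aa * cc) ∧
    evalW gK Zc = ((1 : Multiplicative (ZMod 2)), cc * aa) ∧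
    evalW gK Zd = ((1 : Multiplicative (ZMod 2)), cc⁻¹ * aa * aa) := by
  simp only [evalW_eq_prod]
  decide +kernel

theorem base_values : evalW gK (Tl ++ Tl) = 1 ∧ evalW gK (wPow Cl 3) = 1 ∧
    evalW gK (wPow Al 5) = 1 ∧ evalW gK (Tl ++ Cl ++ Tl ++ Ci) = 1 ∧
    evalW gK (Tl ++ Al ++ Tl ++ Ai) = 1 ∧ evalW gK (wPow (Al ++ Cl) 5) = 1 ∧
    evalW gK (wPow (Cl ++ Ai) 3) = 1 := by
  simp only [evalW_eq_prod]
  decide +kernel

/-- Words for the elements of `A₅`; `true` stands for `aa`, `false` for `cc`. -/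
def words60 : List (List Bool) := [
    [],
    [true],
    [false],
    [true, true],
    [true, false],
    [false, true],
    [false, false],
    [true, true, true],
    [true, true, false],
    [true, false, true],
    [true, false, false],
    [false, true, true],
    [false, true, false],
    [false, false, true],
    [true, true, true, true],
    [true, true, true, false],
    [true, true, false, true],
    [true, true, false, false],
    [true, false, true, true],
    [true, false, true, false],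
    [true, false, false, true],
    [false, true, true, true],
    [false, true, false, true],
    [false, true, false, false],
    [false, false, true, true],
    [false, false, true, false],
    [true, true, true, true, false],
    [true, true, true, false, true],
    [true, true, false, true, false],
    [true, true, false, false, true],
    [true, false, true, true, true],
    [true, false, true, false, true],
    [true, false, true, false, false],
    [true, false, false, true, true],
    [true, false, false, true, false],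
    [false, true, true, true, true],
    [false, true, true, true, false],
    [false, true, false, true, false],
    [false, false, true, false, true],
    [false, false, true, false, false],
    [true, true, true, true, false, true],
    [true, true, true, false, true, false],
    [true, true, false, true, false, true],
    [true, true, false, true, false, false],
    [true, true, false, false, true, false],
    [true, false, true, true, true, true],
    [true, false, true, true, true, false],
    [true, false, false, true, false, true],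
    [false, true, true, true, false, true],
    [false, true, false, true, false, false],
    [false, false, true, false, true, false],
    [true, true, true, true, false, true, false],
    [true, true, true, false, true, false, true],
    [true, true, true, false, true, false, false],
    [true, true, false, false, true, false, true],
    [true, false, false, true, false, true, false],
    [false, true, true, true, false, true, false],
    [true, true, true, true, false, true, false, true],
    [true, true, true, true, false, true, false, false],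
    [true, true, false, false, true, false, true, false]
  ]

theorem words60_cover : ∀ x : A5,
    words60.any (fun w => decide ((w.map fun b => if b then aa else cc).prod = x)) = true := by
  decide +kernel

theorem fst_cases : ∀ x : Multiplicative (ZMod 2), x = 1 ∨ x = Multiplicative.ofAdd 1 := by decide

theorem tau_one_cases : ∀ z : K5, z ^ 5 = 1 → z ≠ 1 →
    zK * (1, u1) * z * (zK * (1, u1))⁻¹ = z⁻¹ →
    ∃ i : Fin 5, z ^ (i : ℕ) = (1, aa) ∨ z ^ (i : ℕ) = (1, aa * cc) := by
  decide +kernel

theorem tau_three_cases : ∀ z : K5, z ^ 5 = 1 → z ≠ 1 →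
    ((1 : Multiplicative (ZMod 2)), uu * u1) * z * (1, uu * u1)⁻¹ = z⁻¹ →
    ∃ i : Fin 5, z ^ (i : ℕ) = (1, cc * aa) ∨ z ^ (i : ℕ) = (1, cc⁻¹ * aa * aa) := by
  decide +kernel

theorem kK_uu : kK * (1, uu) * kK⁻¹ = ((1 : Multiplicative (ZMod 2)), wp) ∧
    kK * (zK * (1, uu)) * kK⁻¹ = zK * ((1 : Multiplicative (ZMod 2)), wp) ∧
    kK * zK * kK⁻¹ = zK ∧
    ((1 : Multiplicative (ZMod 2)), uu) * (1, uu * u1) = ((1 : Multiplicative (ZMod 2)), u1) ∧
    zK ≠ ((1 : Multiplicative (ZMod 2)), uu) := by
  decide +kernel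

section words

variable {M : Type*} [Group M] (f : Fin 4 → M)

theorem evalW_wInv (w : Wd) : evalW f (wInv w) = (evalW f w)⁻¹ := by
  rw [evalW_eq_prod, evalW_eq_prod, List.prod_inv_reverse, wInv, List.map_map, List.map_reverse,
    List.map_map]
  congr 2
  refine List.map_congr_left fun x _ => ?_
  rcases x with ⟨a, _ | _⟩ <;> simp

theorem evalW_wPow (w : Wd) (m : ℕ) : evalW f (wPow w m) = evalW f w ^ m := by
  induction m with
  | zero => simp [wPow, evalW_eq_prod]
  | succ m ih =>
    have : wPow w (m + 1) = w ++ wPow w m := by simp [wPow, List.replicate_succ]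
    rw [this, evalW_append, ih, pow_succ']

end words

variable {G : Type*} [Group G]

namespace Amalgam

/-- The generators. -/
def gens (A : Amalgam G) : Fin 4 → G := ![A.φ zK, A.φ (1, cc), A.φ (1, aa), A.n]

theorem gens_three (A : Amalgam G) : A.gens 3 = A.n := rfl

theorem evalW_gens (A : Amalgam G) (w : Wd) (hw : (w.all fun x => decide (x.1 ≠ 3)) = true) :
    evalW A.gens w = A.φ (evalW gK w) := by
  rw [evalW_eq_prod, evalW_eq_prod, map_list_prod, List.map_map]
  congr 1
  refine List.map_congr_left fun x hx => ?_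
  simp only [List.all_eq_true, decide_eq_true_eq] at hw
  have h := hw x hx
  rcases x with ⟨a, _ | _⟩ <;> fin_cases a <;> simp_all [gens, gK] <;>
  · rw [← map_inv]
    exact congrArg A.φ (by decide +kernel)

theorem evalW_Nl (A : Amalgam G) : evalW A.gens Nl = A.n ∧ evalW A.gens Ni = A.n⁻¹ := by
  constructor <;> simp [evalW_eq_prod, Nl, Ni, gens]

theorem base_rel (A : Amalgam G) : ∀ w ∈ baseW, evalW A.gens w = 1 := by
  intro w hw
  obtain ⟨hU, hU1, -, -, -, -, -⟩ := word_values
  obtain ⟨b1, b2, b3, b4, b5, b6, b7⟩ := base_values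
  obtain ⟨hN, hNi⟩ := A.evalW_Nl
  have hC : evalW A.gens Cl = A.φ (1, cc) := by simp [evalW_eq_prod, Cl, gens]
  have hCi : evalW A.gens Ci = (A.φ (1, cc))⁻¹ := by simp [evalW_eq_prod, Ci, gens]
  have hT : evalW A.gens Tl = A.φ zK := by simp [evalW_eq_prod, Tl, gens]
  have hUG : evalW A.gens Uw = A.φ (1, uu) := by rw [A.evalW_gens _ (by decide), hU]
  have hU1G : evalW A.gens U1w = A.φ (1, u1) := by rw [A.evalW_gens _ (by decide), hU1]
  simp only [baseW, List.mem_cons, List.not_mem_nil, or_false] at hw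
  rcases hw with rfl | rfl | rfl | rfl | rfl | rfl | rfl | rfl | rfl | rfl | rfl | rfl
  · rw [A.evalW_gens _ (by decide), b1, map_one]
  · rw [A.evalW_gens _ (by decide), b2, map_one]
  · rw [A.evalW_gens _ (by decide), b3, map_one]
  · rw [A.evalW_gens _ (by decide), b4, map_one]
  · rw [A.evalW_gens _ (by decide), b5, map_one]
  · rw [A.evalW_gens _ (by decide), b6, map_one]
  · rw [A.evalW_gens _ (by decide), b7, map_one]
  · rw [evalW_wPow, hN, A.n7]
  · rw [evalW_append, evalW_append, evalW_append, evalW_wInv, hN, hNi, hT, hUG, A.nt, mul_inv_cancel]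
  · rw [evalW_append, evalW_append, evalW_append, evalW_wInv, hN, hNi, hUG, hU1G, A.nu,
      mul_inv_cancel]
  · rw [evalW_append, evalW_append, evalW_append, evalW_append, evalW_wInv, hN, hNi, hU1G, hUG,
      hT, A.nv, mul_inv_cancel_right, ← map_mul, ← map_one A.φ]
    exact congrArg A.φ (by decide +kernel)
  · rw [evalW_append, evalW_append, evalW_append, evalW_append, hN, hNi, hC, hCi, A.cn, pow_two]
    group

/-- Conjugation by `n` inside the centralizer. -/
theorem conj_facts (A : Amalgam G) :
    A.n * A.φ (zK * (1, u1)) * A.n⁻¹ = A.φ zK ∧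
    A.n ^ 3 * A.φ (1, uu * u1) * (A.n ^ 3)⁻¹ = A.φ zK ∧
    A.n ^ 3 * A.φ zK * (A.n ^ 3)⁻¹ = A.φ (zK * (1, uu)) := by
  have hm : ∀ x : G, A.n * x * A.n⁻¹ = MulAut.conj A.n x := fun x => rfl
  have e0 := A.nt
  have e1 := A.nu
  have e2 := A.nv
  rw [hm] at e0 e1 e2
  have s1 : MulAut.conj A.n (A.φ (1, uu * u1)) = A.φ (zK * (1, u1 * uu)) := by
    rw [show ((1 : Multiplicative (ZMod 2)), uu * u1) = (1, uu) * (1, u1) from rfl, map_mul, map_mul,
      e1, e2, ← map_mul, ← map_mul]
    exact congrArg A.φ (by decide +kernel)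
  have s2 : MulAut.conj A.n (A.φ (zK * (1, u1 * uu))) = A.φ (zK * (1, u1)) := by
    rw [show ((1 : Multiplicative (ZMod 2)), u1 * uu) = (1, u1) * (1, uu) from rfl, map_mul, map_mul,
      map_mul, map_mul, e0, e1, e2, ← map_mul, ← map_mul, ← map_mul]
    exact congrArg A.φ (by decide +kernel)
  have s3 : MulAut.conj A.n (A.φ (zK * (1, u1))) = A.φ zK := by
    rw [map_mul, map_mul, e0, e2, ← map_mul, ← map_mul]
    exact congrArg A.φ (by decide +kernel)
  refine ⟨(hm _).trans s3, ?_, ?_⟩
  · calc A.n ^ 3 * A.φ (1, uu * u1) * (A.n ^ 3)⁻¹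
        = MulAut.conj A.n (MulAut.conj A.n (MulAut.conj A.n (A.φ (1, uu * u1)))) := by
          simp only [MulAut.conj_apply, pow_succ, pow_zero]; group
      _ = A.φ zK := by rw [s1, s2, s3]
  · calc A.n ^ 3 * A.φ zK * (A.n ^ 3)⁻¹
        = MulAut.conj A.n (MulAut.conj A.n (MulAut.conj A.n (A.φ zK))) := by
          simp only [MulAut.conj_apply, pow_succ, pow_zero]; group
      _ = A.φ (zK * (1, uu)) := by rw [e0, e1, e2, map_mul]

/-- The additional relation, from an element of order five. -/
theorem rel_of_five (A : Amalgam G) (j : ℕ) (τ va vb : K5) (za zb : Wd)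
    (hza : (za.all fun x => decide (x.1 ≠ 3)) = true) (hzb : (zb.all fun x => decide (x.1 ≠ 3)) = true)
    (ha : evalW gK za = va) (hb : evalW gK zb = vb)
    (hτ : A.n ^ j * A.φ τ * (A.n ^ j)⁻¹ = A.φ zK)
    (hcases : ∀ z : K5, z ^ 5 = 1 → z ≠ 1 → τ * z * τ⁻¹ = z⁻¹ →
      ∃ i : Fin 5, z ^ (i : ℕ) = va ∨ z ^ (i : ℕ) = vb)
    {y : G} (hy : orderOf y = 5) (hyc : Commute y (A.φ (1, cc)))
    (hyt : A.φ zK * y * (A.φ zK)⁻¹ = y⁻¹)
    (hw : Commute y ((A.φ kK * A.n ^ j) * A.φ zK * (A.φ kK * A.n ^ j)⁻¹)) :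
    (∀ w ∈ allW j za, evalW A.gens w = 1) ∨ (∀ w ∈ allW j zb, evalW A.gens w = 1) := by
  set g := A.φ kK * A.n ^ j with hg
  set t := A.φ zK with ht
  have hgt : g * A.φ τ * g⁻¹ = t := by
    calc g * A.φ τ * g⁻¹ = A.φ kK * (A.n ^ j * A.φ τ * (A.n ^ j)⁻¹) * (A.φ kK)⁻¹ := by
          rw [hg]; group
      _ = t := by
          rw [hτ, ht, ← map_inv, ← map_mul, ← map_mul, kK_uu.2.2.1]
  obtain ⟨z, hz⟩ : ∃ z, A.φ z = g⁻¹ * y * g := by
    refine A.cent _ ?_
    have := hw.map (MulAut.conj g⁻¹).toMonoidHom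
    simp only [MulEquiv.coe_toMonoidHom, MulAut.conj_apply, inv_inv] at this
    rw [show g⁻¹ * (g * t * g⁻¹) * g = t by group] at this
    exact this
  have hz5 : orderOf z = 5 := by
    have h1 : orderOf (g⁻¹ * y * g) = 5 := by
      rw [← hy, show g⁻¹ * y * g = (MulAut.conj g⁻¹).toMonoidHom y by simp]
      exact orderOf_injective _ (MulAut.conj g⁻¹).injective y
    rw [← hz, orderOf_injective A.φ A.inj] at h1
    exact h1
  have hzτ : τ * z * τ⁻¹ = z⁻¹ := A.inj (by
    rw [map_mul, map_mul, map_inv, map_inv, hz]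
    calc A.φ τ * (g⁻¹ * y * g) * (A.φ τ)⁻¹
        = g⁻¹ * ((g * A.φ τ * g⁻¹) * y * (g * A.φ τ * g⁻¹)⁻¹) * g := by group
      _ = (g⁻¹ * y * g)⁻¹ := by rw [hgt, hyt]; group)
  obtain ⟨i, hi⟩ := hcases z (by have h := pow_orderOf_eq_one z; rwa [hz5] at h) (fun h => by
    rw [h, orderOf_one] at hz5; omega) hzτ
  have hy' : g * A.φ (z ^ (i : ℕ)) * g⁻¹ = y ^ (i : ℕ) := by
    rw [map_pow, hz, ← conj_pow]
    congr 1; group
  have hK : evalW A.gens Kw = A.φ kK := by
    rw [A.evalW_gens _ (by decide), word_values.2.2.1]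
  have key : ∀ zw : Wd, evalW A.gens zw = A.φ (z ^ (i : ℕ)) →
      ∀ w ∈ allW j zw, evalW A.gens w = 1 := by
    intro zw hzw w hw
    rcases List.mem_append.1 hw with hw | hw
    · exact A.base_rel w hw
    rw [List.mem_singleton.1 hw]
    have hY : evalW A.gens (Yw j zw) = y ^ (i : ℕ) := by
      simp only [Yw, evalW_append, evalW_wPow, evalW_wInv, hK, hzw, A.evalW_Nl]
      rw [← hy', hg]; group
    have hC : evalW A.gens Cl = A.φ (1, cc) := by simp [evalW_eq_prod, Cl, gens]
    have hCi : evalW A.gens Ci = (A.φ (1, cc))⁻¹ := by simp [evalW_eq_prod, Ci, gens]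
    simp only [extraW, evalW_append, evalW_wInv, hY, hC, hCi]
    rw [← (hyc.pow_left (i : ℕ)).eq, mul_inv_cancel_right, mul_inv_cancel]
  rcases hi with h | h
  · exact Or.inl (key za (by rw [A.evalW_gens _ hza, ha, h]))
  · exact Or.inr (key zb (by rw [A.evalW_gens _ hzb, hb, h]))

/-- The element `n` does not fix the base coset. -/
theorem n_not_mem (A : Amalgam G) : A.n ∉ A.φ.range := by
  rintro ⟨k, hk⟩
  have h := A.nt
  have hk' : k * zK * k⁻¹ = zK := by
    rw [show k * zK = zK * k from Prod.ext (mul_comm _ _) (by simp [zK]), mul_inv_cancel_right]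
  rw [← hk, ← map_inv, ← map_mul, ← map_mul, hk'] at h
  exact kK_uu.2.2.2.2 (A.inj h)

theorem sub_fix (A : Amalgam G) : ∀ w ∈ subW, evalW A.gens w • ((1 : G) : G ⧸ A.φ.range) =
    ((1 : G) : G ⧸ A.φ.range) := by
  intro w hw
  rw [MulAction.Quotient.smul_coe, smul_eq_mul, mul_one]
  refine QuotientGroup.eq.mpr ?_
  simp only [subW, List.mem_cons, List.not_mem_nil, or_false] at hw
  rcases hw with rfl | rfl | rfl <;>
  · rw [A.evalW_gens _ (by decide), mul_one]
    exact inv_mem ⟨_, rfl⟩

theorem not_collapse (A : Amalgam G) {j : ℕ} {zw : Wd}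
    (hcol : ∀ (f : Fin 4 → G) (x0 : G ⧸ A.φ.range), (∀ w ∈ allW j zw, evalW f w = 1) →
      (∀ w ∈ subW, evalW f w • x0 = x0) → f 3 • x0 = x0) :
    ¬ ∀ w ∈ allW j zw, evalW A.gens w = 1 := fun h => by
  have := hcol A.gens _ h A.sub_fix
  rw [gens_three, MulAction.Quotient.smul_coe, smul_eq_mul, mul_one, eq_comm, QuotientGroup.eq,
    inv_one, one_mul] at this
  exact A.n_not_mem this

variable [Finite G]

/-- The relations hold. -/
theorem relations (A : Amalgam G) (hcard : Nat.card G = 175560) :
    ∀ w ∈ allW 1 Zb, evalW A.gens w = 1 := by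
  obtain ⟨y, w', hy, hyc, hyt, hyw, hw'⟩ := A.toJ1Hyp.exists_five hcard
  obtain ⟨-, -, -, va, vb, vc, vd⟩ := word_values
  obtain ⟨c1, c3, c3'⟩ := A.conj_facts
  rcases hw' with rfl | rfl
  · have hg : (A.φ kK * A.n ^ 1) * A.φ zK * (A.φ kK * A.n ^ 1)⁻¹ = A.φ (1, wp) := by
      calc (A.φ kK * A.n ^ 1) * A.φ zK * (A.φ kK * A.n ^ 1)⁻¹
          = A.φ kK * (A.n * A.φ zK * A.n⁻¹) * (A.φ kK)⁻¹ := by group
        _ = A.φ (1, wp) := by rw [A.nt, ← map_inv, ← map_mul, ← map_mul, kK_uu.1]
    rcases A.rel_of_five 1 (zK * (1, u1)) _ _ Za Zb (by decide) (by decide) va vb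
      (by rw [pow_one]; exact c1) tau_one_cases hy hyc hyt (hg ▸ hyw) with h | h
    · exact absurd h (A.not_collapse fun f x0 hW hWH => CertA.collapse f x0 hW hWH)
    · exact h
  · have hg : (A.φ kK * A.n ^ 3) * A.φ zK * (A.φ kK * A.n ^ 3)⁻¹ = A.φ zK * A.φ (1, wp) := by
      calc (A.φ kK * A.n ^ 3) * A.φ zK * (A.φ kK * A.n ^ 3)⁻¹
          = A.φ kK * (A.n ^ 3 * A.φ zK * (A.n ^ 3)⁻¹) * (A.φ kK)⁻¹ := by group
        _ = A.φ zK * A.φ (1, wp) := by
          rw [c3', ← map_inv, ← map_mul, ← map_mul, ← map_mul, kK_uu.2.1]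
    rcases A.rel_of_five 3 (1, uu * u1) _ _ Zc Zd (by decide) (by decide) vc vd
      c3 tau_three_cases hy hyc hyt (hg ▸ hyw) with h | h
    · exact absurd h (A.not_collapse fun f x0 hW hWH => CertC.collapse f x0 hW hWH)
    · exact absurd h (A.not_collapse fun f x0 hW hWH => CertD.collapse f x0 hW hWH)

end Amalgam

end CfsgLib.J1Order
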