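import Cfsg.Agent.Lib.SporRecognition.CosetCert.Upper

/-!
The relations of a group of Janko type: letters `0 = t`, `1 = c`, `2 = a`, `3 = n`.
-/

set_option autoImplicit false

namespace CfsgLib.J1Unique

/-- Words. -/
abbrev Wd := List (Fin 4 × Bool)

/-- Inverse word. -/
def wInv (w : Wd) : Wd := w.reverse.map fun x => (x.1, !x.2)

def Tl : Wd := [(0, true)]
def Cl : Wd := [(1, true)]
def Ci : Wd := [(1, false)]
def Al : Wd := [(2, true)]
def Ai : Wd := [(2, false)]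
def Nl : Wd := [(3, true)]
def Ni : Wd := [(3, false)]

/-- `m`-th power of a word. -/
def wPow (w : Wd) (m : Nat) : Wd := (List.replicate m w).flatten

def Uw : Wd := Cl ++ Al ++ Cl ++ Ai
def U1w : Wd := Cl ++ Al ++ Ci ++ Ai ++ Cl
def Kw : Wd := Ci ++ Al

/-- Relations common to all cases. -/
def baseW : List Wd :=
  [Tl ++ Tl, wPow Cl 3, wPow Al 5, Tl ++ Cl ++ Tl ++ Ci, Tl ++ Al ++ Tl ++ Ai, wPow (Al ++ Cl) 5,
    wPow (Cl ++ Ai) 3, wPow Nl 7, Nl ++ Tl ++ Ni ++ wInv Uw, Nl ++ Uw ++ Ni ++ wInv U1w,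
    Nl ++ U1w ++ Ni ++ wInv Uw ++ Tl, Cl ++ Nl ++ Ci ++ Ni ++ Ni]

/-- The element `g z g⁻¹` with `g = k nʲ`. -/
def Yw (j : Nat) (Zw : Wd) : Wd := Kw ++ wPow Nl j ++ Zw ++ wPow Ni j ++ wInv Kw

/-- `c` commutes with `g z g⁻¹`. -/
def extraW (j : Nat) (Zw : Wd) : Wd := Cl ++ Yw j Zw ++ Ci ++ wInv (Yw j Zw)

def Za : Wd := Al
def Zb : Wd := Al ++ Cl
def Zc : Wd := Cl ++ Al
def Zd : Wd := Ci ++ Al ++ Al

/-- All relations of a case. -/
def allW (j : Nat) (Zw : Wd) : List Wd := baseW ++ [extraW j Zw]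

/-- The subgroup words. -/
def subW : List Wd := [Tl, Cl, Al]

/-- The letters. -/
def lets : List (Fin 4 × Bool) :=
  [(0, true), (1, true), (1, false), (2, true), (2, false), (3, true), (3, false)]

end CfsgLib.J1Unique
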